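import Groth.Prelude.Def_VecGrp
import Groth.Prelude.Def_HopfRep
import Mathlib.RingTheory.Bialgebra.Convolution
import Mathlib.RingTheory.HopfAlgebra.Convolution

/-!
# `G`-modules over an affine group scheme and comodules

`A` a commutative Hopf algebra over `R`, `G = Spec A`, `E` an `R`-module.

* `ev g : A →ₐ[R] B` for a point `g : pt R B ⟶ Spec A`, `ev_mul`, `ev_one`, `ev_comp`, `univ`, `ptMap_univ`.
* `theta f : E ⊗ A → B ⊗ E`, `Corr m δ`: the `G`-module `m` corresponds to `δ : E → E ⊗ A`.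
* `exists_gmod`, `gmod_unique`, `exists_delta`: the correspondence.
-/

set_option autoImplicit false
universe u
open CategoryTheory MonObj GrpObj AlgebraicGeometry
open scoped TensorProduct

namespace Groth.Agent.SGA3.K211.GModComod

variable {R : Type u} [CommRing R] {A : Type u} [CommRing A] [HopfAlgebra R A]

/-- The algebra map of a point of `Spec A`. -/
noncomputable def ev {B : Type u} [CommRing B] [Algebra R B]
    (g : VecGrp.pt R B ⟶ (Spec (CommRingCat.of A)).asOver (Spec (CommRingCat.of R))) : A →ₐ[R] B :=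
  (Spec.mapMulEquiv.symm g).ofConv

/-- The point of an algebra map. -/
noncomputable def ofAlg {B : Type u} [CommRing B] [Algebra R B] (f : A →ₐ[R] B) :
    VecGrp.pt R B ⟶ (Spec (CommRingCat.of A)).asOver (Spec (CommRingCat.of R)) :=
  Spec.mapMulEquiv (WithConv.toConv f)

@[simp] theorem ev_ofAlg {B : Type u} [CommRing B] [Algebra R B] (f : A →ₐ[R] B) : ev (ofAlg f) = f := by
  rw [ev, ofAlg, MulEquiv.symm_apply_apply]

@[simp] theorem ofAlg_ev {B : Type u} [CommRing B] [Algebra R B]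
    (g : VecGrp.pt R B ⟶ (Spec (CommRingCat.of A)).asOver (Spec (CommRingCat.of R))) : ofAlg (ev g) = g := by
  exact Spec.mapMulEquiv.apply_symm_apply g

theorem ev_mul {B : Type u} [CommRing B] [Algebra R B]
    (g g' : VecGrp.pt R B ⟶ (Spec (CommRingCat.of A)).asOver (Spec (CommRingCat.of R))) :
    ev (g * g') = ((Algebra.TensorProduct.lmul' R).comp
      (Algebra.TensorProduct.map (ev g) (ev g'))).comp (Bialgebra.comulAlgHom R A) := by
  have : ev (g * g') = (WithConv.toConv (ev g) * WithConv.toConv (ev g')).ofConv :=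
    congrArg WithConv.ofConv (map_mul Spec.mapMulEquiv.symm g g')
  rw [this, AlgHom.convMul_def]
  rfl

theorem ev_one {B : Type u} [CommRing B] [Algebra R B] :
    ev (1 : VecGrp.pt R B ⟶ (Spec (CommRingCat.of A)).asOver (Spec (CommRingCat.of R))) =
      (Algebra.ofId R B).comp (Bialgebra.counitAlgHom R A) := by
  have : ev (1 : VecGrp.pt R B ⟶ (Spec (CommRingCat.of A)).asOver (Spec (CommRingCat.of R))) =
      (1 : WithConv (A →ₐ[R] B)).ofConv :=
    congrArg WithConv.ofConv (map_one Spec.mapMulEquiv.symm)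
  rw [this]
  rfl

theorem ptMap_ofAlg {B B' : Type u} [CommRing B] [Algebra R B] [CommRing B'] [Algebra R B']
    (φ : B →ₐ[R] B') (f : A →ₐ[R] B) : VecGrp.ptMap φ ≫ ofAlg f = ofAlg (φ.comp f) := by
  ext1
  change Spec.map _ ≫ Spec.map _ = Spec.map _
  rw [← Spec.map_comp]
  rfl

theorem ev_comp {B B' : Type u} [CommRing B] [Algebra R B] [CommRing B'] [Algebra R B']
    (φ : B →ₐ[R] B') (g : VecGrp.pt R B ⟶ (Spec (CommRingCat.of A)).asOver (Spec (CommRingCat.of R))) :
    ev (VecGrp.ptMap φ ≫ g) = φ.comp (ev g) := by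
  conv_lhs => rw [← ofAlg_ev g]
  rw [ptMap_ofAlg, ev_ofAlg]

variable {E : Type u} [AddCommGroup E] [Module R E]

/-- `E ⊗ A → B ⊗ E`, `y ⊗ a ↦ f a ⊗ y`. -/
noncomputable def theta {B : Type u} [CommRing B] [Algebra R B] (f : A →ₐ[R] B) : E ⊗[R] A →ₗ[R] B ⊗[R] E :=
  (TensorProduct.comm R E B).toLinearMap ∘ₗ LinearMap.lTensor E f.toLinearMap

@[simp] theorem theta_tmul {B : Type u} [CommRing B] [Algebra R B] (f : A →ₐ[R] B) (y : E) (a : A) :
    theta f (y ⊗ₜ[R] a) = f a ⊗ₜ y := rfl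

theorem Wmap_theta {B B' : Type u} [CommRing B] [Algebra R B] [CommRing B'] [Algebra R B']
    (φ : B →ₐ[R] B') (f : A →ₐ[R] B) (z : E ⊗[R] A) :
    VecGrp.Wmap φ (theta f z) = theta (φ.comp f) z := by
  induction z with
  | zero => simp
  | add x y hx hy => simp only [map_add, hx, hy]
  | tmul y a => rfl

/-- `(E ⊗ A) ⊗ A → B ⊗ E`, `(y ⊗ a') ⊗ a ↦ f' a f a' ⊗ y`. -/
noncomputable def Theta {B : Type u} [CommRing B] [Algebra R B] (f f' : A →ₐ[R] B) :
    (E ⊗[R] A) ⊗[R] A →ₗ[R] B ⊗[R] E :=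
  TensorProduct.lift (LinearMap.flip
    (LinearMap.compl₂ (LinearMap.restrictScalars₁₂ R R (LinearMap.lsmul B (B ⊗[R] E)) ∘ₗ f'.toLinearMap) (theta f)))

@[simp] theorem Theta_tmul {B : Type u} [CommRing B] [Algebra R B] (f f' : A →ₐ[R] B) (w : E ⊗[R] A) (a : A) :
    Theta f f' (w ⊗ₜ[R] a) = f' a • theta f w := rfl

theorem Theta_comul {B : Type u} [CommRing B] [Algebra R B] (f f' : A →ₐ[R] B) (z : E ⊗[R] A) :
    Theta f f' ((TensorProduct.assoc R E A A).symm
      ((CoalgebraStruct.comul (R := R) (A := A)).lTensor E z)) =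
      theta (((Algebra.TensorProduct.lmul' R).comp
      (Algebra.TensorProduct.map f f')).comp (Bialgebra.comulAlgHom R A)) z := by
  induction z with
  | zero => simp
  | add x y hx hy => simp only [map_add, hx, hy]
  | tmul y a =>
    rw [LinearMap.lTensor_tmul, theta_tmul]
    change _ = (Algebra.TensorProduct.lmul' R) (Algebra.TensorProduct.map f f' (CoalgebraStruct.comul (R := R) a)) ⊗ₜ y
    generalize CoalgebraStruct.comul (R := R) a = w
    induction w with
    | zero => simp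
    | add p q hp hq => simp only [map_add, TensorProduct.tmul_add, TensorProduct.add_tmul, hp, hq]
    | tmul a₁ a₂ =>
      rw [TensorProduct.assoc_symm_tmul, Theta_tmul, theta_tmul, TensorProduct.smul_tmul', smul_eq_mul,
        Algebra.TensorProduct.map_tmul, Algebra.TensorProduct.lmul'_apply_tmul, mul_comm]

theorem rho_theta {B : Type u} [CommRing B] [Algebra R B] (δ : E →ₗ[R] E ⊗[R] A) (f f' : A →ₐ[R] B)
    (ρ : B ⊗[R] E →ₗ[B] B ⊗[R] E) (hρ : ∀ x, ρ (1 ⊗ₜ x) = theta f (δ x)) (z : E ⊗[R] A) :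
    ρ (theta f' z) = Theta f f' (δ.rTensor A z) := by
  induction z with
  | zero => simp
  | add x y hx hy => simp only [map_add, hx, hy]
  | tmul y a =>
    rw [theta_tmul, LinearMap.rTensor_tmul, Theta_tmul, ← hρ, ← map_smul, TensorProduct.smul_tmul', smul_eq_mul,
      _root_.mul_one]

/-- The endomorphism of `B ⊗ E` given by `δ` and `f`. -/
noncomputable def T (δ : E →ₗ[R] E ⊗[R] A) {B : Type u} [CommRing B] [Algebra R B] (f : A →ₐ[R] B) :
    B ⊗[R] E →ₗ[B] B ⊗[R] E :=
  (theta f ∘ₗ δ).liftBaseChange B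

theorem T_tmul (δ : E →ₗ[R] E ⊗[R] A) {B : Type u} [CommRing B] [Algebra R B] (f : A →ₐ[R] B) (b : B) (x : E) :
    T δ f (b ⊗ₜ x) = b • theta f (δ x) := rfl

theorem T_one_tmul (δ : E →ₗ[R] E ⊗[R] A) {B : Type u} [CommRing B] [Algebra R B] (f : A →ₐ[R] B) (x : E) :
    T δ f (1 ⊗ₜ x) = theta f (δ x) := by rw [T_tmul, one_smul]

theorem hom_ext' {B : Type u} [CommRing B] [Algebra R B] {ρ ρ' : B ⊗[R] E →ₗ[B] B ⊗[R] E}
    (h : ∀ x : E, ρ (1 ⊗ₜ x) = ρ' (1 ⊗ₜ x)) : ρ = ρ' := by
  apply LinearMap.ext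
  intro z
  induction z with
  | zero => simp
  | add x y hx hy => rw [map_add, map_add, hx, hy]
  | tmul b x =>
    have : (b ⊗ₜ[R] x : B ⊗[R] E) = b • (1 ⊗ₜ x) := by rw [TensorProduct.smul_tmul', smul_eq_mul, _root_.mul_one]
    rw [this, map_smul, map_smul, h]

section Forward

variable (δ : E →ₗ[R] E ⊗[R] A)
  (hco : (TensorProduct.assoc R E A A).toLinearMap ∘ₗ δ.rTensor A ∘ₗ δ =
    (CoalgebraStruct.comul (R := R) (A := A)).lTensor E ∘ₗ δ)
  (hcu : (CoalgebraStruct.counit (R := R) (A := A)).lTensor E ∘ₗ δ = (TensorProduct.mk R E R).flip 1)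

include hco in
theorem T_mul {B : Type u} [CommRing B] [Algebra R B] (f f' : A →ₐ[R] B) :
    T δ (((Algebra.TensorProduct.lmul' R).comp
      (Algebra.TensorProduct.map f f')).comp (Bialgebra.comulAlgHom R A)) = T δ f ∘ₗ T δ f' := by
  apply hom_ext'
  intro x
  rw [LinearMap.comp_apply, T_one_tmul, T_one_tmul, rho_theta δ f f' (T δ f) (T_one_tmul δ f), ← Theta_comul]
  congr 1
  rw [LinearEquiv.symm_apply_eq]
  exact (congr($hco x)).symm

include hcu in
theorem T_one {B : Type u} [CommRing B] [Algebra R B] :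
    T δ ((Algebra.ofId R B).comp (Bialgebra.counitAlgHom R A)) = LinearMap.id := by
  apply hom_ext'
  intro x
  rw [T_one_tmul, LinearMap.id_apply]
  have h1 : ∀ z : E ⊗[R] A, theta ((Algebra.ofId R B).comp (Bialgebra.counitAlgHom R A)) z =
      VecGrp.Wmap (Algebra.ofId R B) (TensorProduct.comm R E R
        ((CoalgebraStruct.counit (R := R) (A := A)).lTensor E z)) := by
    intro z
    induction z with
    | zero => simp
    | add x y hx hy => simp only [map_add, hx, hy]
    | tmul y a => rfl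
  rw [h1]
  have h2 : (CoalgebraStruct.counit (R := R) (A := A)).lTensor E (δ x) = x ⊗ₜ 1 := congr($hcu x)
  rw [h2, TensorProduct.comm_tmul, VecGrp.Wmap_tmul, map_one]

/-- The monoid homomorphism to endomorphisms. -/
noncomputable def rhoEnd (B : Type u) [CommRing B] [Algebra R B] :
    (VecGrp.pt R B ⟶ (Spec (CommRingCat.of A)).asOver (Spec (CommRingCat.of R))) →*
      Module.End B (B ⊗[R] E) where
  toFun g := T δ (ev g)
  map_one' := by rw [ev_one, T_one δ hcu]; rfl
  map_mul' g g' := by rw [ev_mul, T_mul δ hco]; rfl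

include hco hcu in
theorem exists_gmod : ∃ m : VecGrp.GMod ((Spec (CommRingCat.of A)).asOver (Spec (CommRingCat.of R))) E,
    ∀ (B : Type u) [CommRing B] [Algebra R B]
      (g : VecGrp.pt R B ⟶ ((Spec (CommRingCat.of A)).asOver (Spec (CommRingCat.of R)))) (x : E),
      m.ρ B g ((1 : B) ⊗ₜ[R] x) = theta (ev g) (δ x) := by
  refine ⟨⟨fun B _ _ => (LinearMap.GeneralLinearGroup.generalLinearEquiv B (B ⊗[R] E)).toMonoidHom.comp
    (rhoEnd δ hco hcu B).toHomUnits, ?_⟩, ?_⟩
  · intro B B' _ _ _ _ φ g x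
    change VecGrp.Wmap φ (T δ (ev g) x) = T δ (ev (VecGrp.ptMap φ ≫ g)) (VecGrp.Wmap φ x)
    induction x using TensorProduct.induction_on with
    | zero => simp
    | add x y hx hy => simp only [map_add, hx, hy]
    | tmul b x =>
      rw [T_tmul, VecGrp.Wmap_smul, VecGrp.Wmap_tmul, T_tmul, Wmap_theta, ev_comp]
  · intro B _ _ g x
    exact T_one_tmul δ (ev g) x

end Forward

theorem gmod_ext {G : Over (Spec (CommRingCat.of R))} [GrpObj G] {m m' : VecGrp.GMod G E}
    (h : ∀ (B : Type u) [CommRing B] [Algebra R B] (g : VecGrp.pt R B ⟶ G) (x : E),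
      m.ρ B g ((1 : B) ⊗ₜ[R] x) = m'.ρ B g ((1 : B) ⊗ₜ[R] x)) : m = m' := by
  obtain ⟨ρ, hρ⟩ := m
  obtain ⟨ρ', hρ'⟩ := m'
  have : @ρ = @ρ' := by
    funext B _ _
    ext1 g
    have h1 : (ρ B g : B ⊗[R] E →ₗ[B] B ⊗[R] E) = (ρ' B g : B ⊗[R] E →ₗ[B] B ⊗[R] E) :=
      hom_ext' fun x => h B g x
    exact LinearEquiv.toLinearMap_injective h1
  subst this
  rfl

section Backward

variable (m : VecGrp.GMod ((Spec (CommRingCat.of A)).asOver (Spec (CommRingCat.of R))) E)

/-- The coaction of a `G`-module. -/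
noncomputable def delta : E →ₗ[R] E ⊗[R] A :=
  (TensorProduct.comm R E A).symm.toLinearMap ∘ₗ
    ((m.ρ A (ofAlg (AlgHom.id R A))).toLinearMap.restrictScalars R) ∘ₗ TensorProduct.mk R A E 1

theorem corr (B : Type u) [CommRing B] [Algebra R B]
    (g : VecGrp.pt R B ⟶ ((Spec (CommRingCat.of A)).asOver (Spec (CommRingCat.of R)))) (x : E) :
    m.ρ B g ((1 : B) ⊗ₜ[R] x) = theta (ev g) (delta m x) := by
  have h1 := m.naturality (ev g) (ofAlg (AlgHom.id R A)) ((1 : A) ⊗ₜ x)
  rw [VecGrp.Wmap_tmul, map_one, ptMap_ofAlg, AlgHom.comp_id, ofAlg_ev] at h1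
  rw [← h1]
  have h2 : m.ρ A (ofAlg (AlgHom.id R A)) ((1 : A) ⊗ₜ x) = theta (AlgHom.id R A) (delta m x) := by
    change _ = TensorProduct.comm R E A (LinearMap.lTensor E LinearMap.id ((TensorProduct.comm R E A).symm _))
    rw [LinearMap.lTensor_id, LinearMap.id_apply, LinearEquiv.apply_symm_apply]
    rfl
  rw [h2, Wmap_theta, AlgHom.comp_id]

theorem theta_injective_id : Function.Injective (theta (E := E) (AlgHom.id R A)) := by
  have : theta (E := E) (AlgHom.id R A) = (TensorProduct.comm R E A).toLinearMap := by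
    rw [theta]
    change _ ∘ₗ LinearMap.lTensor E LinearMap.id = _
    rw [LinearMap.lTensor_id, LinearMap.comp_id]
  rw [this]
  exact (TensorProduct.comm R E A).injective

theorem delta_unique (δ : E →ₗ[R] E ⊗[R] A)
    (h : ∀ x : E, m.ρ A (ofAlg (AlgHom.id R A)) ((1 : A) ⊗ₜ[R] x) = theta (AlgHom.id R A) (δ x)) :
    δ = delta m := by
  ext x
  apply theta_injective_id
  rw [← h, corr, ev_ofAlg]

theorem delta_coassoc : (TensorProduct.assoc R E A A).toLinearMap ∘ₗ (delta m).rTensor A ∘ₗ (delta m) =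
    (CoalgebraStruct.comul (R := R) (A := A)).lTensor E ∘ₗ (delta m) := by
  ext x
  let i₁ : A →ₐ[R] A ⊗[R] A := Algebra.TensorProduct.includeLeft
  let i₂ : A →ₐ[R] A ⊗[R] A := Algebra.TensorProduct.includeRight
  have h1 : ev (ofAlg i₁ * ofAlg i₂) = Bialgebra.comulAlgHom R A := by
    rw [ev_mul, ev_ofAlg, ev_ofAlg]
    have : (Algebra.TensorProduct.lmul' R).comp (Algebra.TensorProduct.map i₁ i₂) =
        AlgHom.id R (A ⊗[R] A) := by
      ext a
      · simp [i₁, i₂]
      · simp [i₁, i₂]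
    rw [this, AlgHom.id_comp]
  have h2 : m.ρ (A ⊗[R] A) (ofAlg i₁ * ofAlg i₂) (1 ⊗ₜ x) =
      Theta i₁ i₂ ((delta m).rTensor A (delta m x)) := by
    rw [map_mul]
    change m.ρ (A ⊗[R] A) (ofAlg i₁) (m.ρ (A ⊗[R] A) (ofAlg i₂) (1 ⊗ₜ x)) = _
    rw [corr m _ (ofAlg i₂), ev_ofAlg]
    exact rho_theta (delta m) i₁ i₂ (m.ρ (A ⊗[R] A) (ofAlg i₁)).toLinearMap (fun y => by
      have := corr m _ (ofAlg i₁) y
      rwa [ev_ofAlg] at this) _
  rw [corr, h1] at h2
  have h3 : ∀ w : (E ⊗[R] A) ⊗[R] A, Theta i₁ i₂ w =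
      TensorProduct.comm R E (A ⊗[R] A) (TensorProduct.assoc R E A A w) := by
    intro w
    induction w with
    | zero => simp
    | add x y hx hy => simp only [map_add, hx, hy]
    | tmul w a =>
      induction w with
      | zero => simp
      | add x y hx hy => simp only [map_add, TensorProduct.add_tmul, hx, hy]
      | tmul y b =>
        rw [Theta_tmul, theta_tmul, TensorProduct.smul_tmul', smul_eq_mul, TensorProduct.assoc_tmul,
          TensorProduct.comm_tmul]
        congr 1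
        simp [i₁, i₂]
  rw [h3] at h2
  exact ((TensorProduct.comm R E (A ⊗[R] A)).injective h2).symm

theorem delta_counit : (CoalgebraStruct.counit (R := R) (A := A)).lTensor E ∘ₗ (delta m) =
    (TensorProduct.mk R E R).flip 1 := by
  ext x
  have h1 := corr m R 1 x
  rw [map_one, ev_one] at h1
  apply (TensorProduct.comm R E R).injective
  exact h1.symm

end Backward

end Groth.Agent.SGA3.K211.GModComod
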