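import Mathlib.AlgebraicGeometry.Stalk

/-!
# A morphism of schemes is determined by its restrictions to the spectra of the local rings

* `hom_ext`: `f = g` if `X.fromSpecStalk x ≫ f = X.fromSpecStalk x ≫ g` for all `x`.
-/

set_option autoImplicit false
universe u
open CategoryTheory CategoryTheory.Limits AlgebraicGeometry IsLocalRing

namespace Groth.Agent.SGA3.K211.StalkExt

theorem appLE_fromSpecStalk {X : Scheme.{u}} (x : X) (V : X.Opens) (hx : x ∈ V)
    (e : ⊤ ≤ X.fromSpecStalk x ⁻¹ᵁ V) :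
    (X.fromSpecStalk x).appLE V ⊤ e = X.presheaf.germ V x hx ≫
      (Scheme.ΓSpecIso (X.presheaf.stalk x)).inv := by
  rw [Scheme.Hom.appLE, Scheme.fromSpecStalk_app hx, Category.assoc, Category.assoc,
    ← Functor.map_comp, ← op_comp]
  have : (homOfLE e ≫ homOfLE (le_top : X.fromSpecStalk x ⁻¹ᵁ V ≤ ⊤)) = 𝟙 _ := rfl
  rw [this, op_id, CategoryTheory.Functor.map_id, Category.comp_id]

theorem top_le_preimage {X : Scheme.{u}} (x : X) (V : X.Opens) (hx : x ∈ V) :
    ⊤ ≤ X.fromSpecStalk x ⁻¹ᵁ V := by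
  intro z _
  have hz : X.fromSpecStalk x z ⤳ x := by
    have : X.fromSpecStalk x z ∈ Set.range (X.fromSpecStalk x) := ⟨z, rfl⟩
    rw [Scheme.range_fromSpecStalk] at this
    exact this
  exact hz.mem_open V.2 hx

theorem hom_ext {X Y : Scheme.{u}} (f g : X ⟶ Y)
    (h : ∀ x, X.fromSpecStalk x ≫ f = X.fromSpecStalk x ≫ g) : f = g := by
  have hb : ∀ x, f x = g x := fun x => by
    have h1 : (X.fromSpecStalk x ≫ f) (closedPoint (X.presheaf.stalk x)) =
        (X.fromSpecStalk x ≫ g) (closedPoint (X.presheaf.stalk x)) := by rw [h x]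
    calc f x = f (X.fromSpecStalk x (closedPoint (X.presheaf.stalk x))) := by
          rw [Scheme.fromSpecStalk_closedPoint]
      _ = g (X.fromSpecStalk x (closedPoint (X.presheaf.stalk x))) := h1
      _ = g x := by rw [Scheme.fromSpecStalk_closedPoint]
  have key : ∀ (U : Y.Opens) (x : X) (hx : x ∈ f ⁻¹ᵁ U) (hx' : x ∈ g ⁻¹ᵁ U),
      f.app U ≫ X.presheaf.germ (f ⁻¹ᵁ U) x hx = g.app U ≫ X.presheaf.germ (g ⁻¹ᵁ U) x hx' := by
    intro U x hx hx'
    rw [← cancel_mono (Scheme.ΓSpecIso (X.presheaf.stalk x)).inv, Category.assoc, Category.assoc,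
      ← appLE_fromSpecStalk x _ hx (top_le_preimage x _ hx),
      ← appLE_fromSpecStalk x _ hx' (top_le_preimage x _ hx')]
    have e1 := Scheme.Hom.comp_appLE (X.fromSpecStalk x) f U ⊤ (top_le_preimage x _ hx)
    have e2 := Scheme.Hom.comp_appLE (X.fromSpecStalk x) g U ⊤ (top_le_preimage x _ hx')
    rw [← e1, ← e2]
    simp only [h x]
  refine Scheme.Hom.ext (by ext x; exact hb x) fun U => ?_
  ext s
  apply TopCat.Presheaf.section_ext X.sheaf
  intro x hx
  have hx' : x ∈ f ⁻¹ᵁ U := by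
    change f x ∈ U
    rw [hb x]; exact hx
  have := congr($(key U x hx' hx) s)
  simp only [CommRingCat.comp_apply] at this
  exact (TopCat.Presheaf.germ_res_apply _ _ _ _ _).trans this

end Groth.Agent.SGA3.K211.StalkExt
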