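import Groth.Agent.SGA3.K211.LiftExact
import Groth.Agent.Models.KoszulBC2

/-!
# Lifting Koszul-regular sequences along a square-zero ideal of the base

* `koszulLift`: `J * J = 0` in `A`, `P` flat over `A`, `P₀ = (A/J) ⊗ P`: if `l` is Koszul-regular in `P₀` with
  quotient flat over `A / J` then `l` is Koszul-regular in `P` and `P / (l)` is flat over `A`.
-/

set_option autoImplicit false
universe u

namespace Groth.Agent.SGA3.K211.KoszulLift

open TensorProduct CategoryTheory Limits CochainComplex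
open Groth.Agent.Flat2H.KoszulGen Groth.Agent.Flat2H.KoszulSeq Groth.Agent.Models.KoszulBC
open Groth.Agent.Models.KoszulBC2 Groth.Agent.SGA3.K211.LiftExact

variable {A P P₀ : Type u} [CommRing A] [CommRing P] [CommRing P₀] (J : Ideal A)
  [Algebra A P] [Algebra A P₀] [Algebra (A ⧸ J) P₀] [Algebra P P₀]
  [IsScalarTower A (A ⧸ J) P₀] [IsScalarTower A P P₀] [Algebra.IsPushout A (A ⧸ J) P P₀]

section Cancel

variable {X Y : Type u} [AddCommGroup X] [AddCommGroup Y] [Module P X] [Module P Y] [Module A X] [Module A Y]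
  [IsScalarTower A P X] [IsScalarTower A P Y] (f : X →ₗ[P] Y)

theorem cancel_comm (x : P₀ ⊗[P] X) :
    (f.restrictScalars A).baseChange (A ⧸ J) (Algebra.IsPushout.cancelBaseChange A (A ⧸ J) P P₀ X x) =
      Algebra.IsPushout.cancelBaseChange A (A ⧸ J) P P₀ Y (f.baseChange P₀ x) := by
  obtain ⟨x, rfl⟩ := (Algebra.IsPushout.cancelBaseChange A (A ⧸ J) P P₀ X).symm.surjective x
  rw [LinearEquiv.apply_symm_apply]
  apply (Algebra.IsPushout.cancelBaseChange A (A ⧸ J) P P₀ Y).symm.injective
  rw [LinearEquiv.symm_apply_apply]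
  induction x with
  | zero => simp
  | add x y hx hy => simp only [map_add, hx, hy]
  | tmul s m => simp

end Cancel

theorem koszulLift (hJ : J * J = ⊥) [Module.Flat A P] (l : List P)
    (hl : LCI.IsKoszulRegularSeq P₀ (l.map (algebraMap P P₀)))
    (hfl : Module.Flat (A ⧸ J) (P₀ ⧸ Ideal.ofList (l.map (algebraMap P P₀)))) :
    LCI.IsKoszulRegularSeq P l ∧ Module.Flat A (P ⧸ Ideal.ofList l) := by
  let hM (i : ℤ) : Module A ((kos l (base P)).X i) := Module.compHom _ (algebraMap A P)
  have hT (i : ℤ) : IsScalarTower A P ((kos l (base P)).X i) := ⟨fun a b x => by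
    rw [Algebra.smul_def, mul_smul]
    rfl⟩
  have hflat (i : ℤ) : Module.Flat A ((kos l (base P)).X i) := by
    have := flat_kos P l i
    exact Module.Flat.trans A P _
  obtain ⟨e₁⟩ := kos_map (algebraMap P P₀) (ext P P₀) (fun a _ _ g => ext_map_smul P P₀ a g) l
    (base P)
  obtain ⟨e₂⟩ := kos_congr (l.map (algebraMap P P₀)) (extBase P P₀)
  let e : ((ext P P₀).mapHomologicalComplex (ComplexShape.up ℤ)).obj (kos l (base P)) ≅
    kos (l.map (algebraMap P P₀)) (base P₀) := e₁ ≪≫ e₂
  -- exactness after reduction, over `P₀`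
  have hex (j : ℤ) (hj : j ≤ 0) : Function.Exact
      (((kos l (base P)).d (j - 1 - 1) (j - 1)).hom.baseChange P₀)
      (((kos l (base P)).d (j - 1) j).hom.baseChange P₀) := by
    have h1 : IsZero ((((ext P P₀).mapHomologicalComplex (ComplexShape.up ℤ)).obj
        (kos l (base P))).homology (j - 1)) :=
      IsZero.of_iso ((isKoszulRegularSeq_iff _).1 hl (j - 1) (by omega))
        ((HomologicalComplex.homologyFunctor _ _ (j - 1)).mapIso e)
    rw [← HomologicalComplex.exactAt_iff_isZero_homology,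
      HomologicalComplex.exactAt_iff' _ (j - 1 - 1) (j - 1) j (by simp) (by simp)] at h1
    exact (ShortComplex.ShortExact.moduleCat_exact_iff_function_exact _).1 h1
  -- exactness after reduction, over `A / J`
  have hex' (j : ℤ) (hj : j ≤ 0) : Function.Exact
      ((((kos l (base P)).d (j - 1 - 1) (j - 1)).hom.restrictScalars A).baseChange (A ⧸ J))
      ((((kos l (base P)).d (j - 1) j).hom.restrictScalars A).baseChange (A ⧸ J)) := by
    intro y
    obtain ⟨y, rfl⟩ := (Algebra.IsPushout.cancelBaseChange A (A ⧸ J) P P₀ _).surjective y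
    rw [cancel_comm, LinearEquiv.map_eq_zero_iff, hex j hj y]
    constructor
    · rintro ⟨x, rfl⟩
      exact ⟨_, cancel_comm J _ x⟩
    · rintro ⟨x, hx⟩
      obtain ⟨x, rfl⟩ := (Algebra.IsPushout.cancelBaseChange A (A ⧸ J) P P₀ _).surjective x
      rw [cancel_comm] at hx
      exact ⟨x, (Algebra.IsPushout.cancelBaseChange A (A ⧸ J) P P₀ _).injective hx⟩
  -- flatness of the cokernels
  have hcok (j : ℤ) (hj : j ≤ 0) : Module.Flat (A ⧸ J) (((A ⧸ J) ⊗[A] (kos l (base P)).X j) ⧸
      LinearMap.range ((((kos l (base P)).d (j - 1) j).hom.restrictScalars A).baseChange (A ⧸ J))) := by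
    let hM' (i : ℤ) : Module (A ⧸ J) ((kos (l.map (algebraMap P P₀)) (base P₀)).X i) :=
      Module.compHom _ (algebraMap (A ⧸ J) P₀)
    have hT' (i : ℤ) : IsScalarTower (A ⧸ J) P₀ ((kos (l.map (algebraMap P P₀)) (base P₀)).X i) :=
      ⟨fun a b x => by
        rw [Algebra.smul_def, mul_smul]
        rfl⟩
    have hfl0 : Module.Flat (A ⧸ J) P₀ := by
      have h1 : Module.Flat (A ⧸ J) ((A ⧸ J) ⊗[A] P) := inferInstance
      exact Module.Flat.of_linearEquiv (Algebra.IsPushout.equiv A (A ⧸ J) P P₀).symm.toLinearEquiv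
    have h0 := flat_quotient (A ⧸ J) (l.map (algebraMap P P₀)) hl hM' hT' j hj
    let φ (i : ℤ) : (P₀ ⊗[P] (kos l (base P)).X i) ≃ₗ[P₀]
        ((kos (l.map (algebraMap P P₀)) (base P₀)).X i) :=
      ((HomologicalComplex.eval _ _ i).mapIso e).toLinearEquiv
    have hφ (x : P₀ ⊗[P] (kos l (base P)).X (j - 1)) :
        φ j (((kos l (base P)).d (j - 1) j).hom.baseChange P₀ x) =
          ((kos (l.map (algebraMap P P₀)) (base P₀)).d (j - 1) j).hom (φ (j - 1) x) :=
      congr($(e.hom.comm (j - 1) j).hom x).symm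
    have hr : Submodule.map (φ j : (P₀ ⊗[P] (kos l (base P)).X j) →ₗ[P₀] _)
        (LinearMap.range (((kos l (base P)).d (j - 1) j).hom.baseChange P₀)) =
        LinearMap.range ((kos (l.map (algebraMap P P₀)) (base P₀)).d (j - 1) j).hom := by
      ext z
      constructor
      · rintro ⟨_, ⟨x, rfl⟩, rfl⟩
        exact ⟨φ (j - 1) x, (hφ x).symm⟩
      · rintro ⟨x, rfl⟩
        obtain ⟨x, rfl⟩ := (φ (j - 1)).surjective x
        exact ⟨_, ⟨x, rfl⟩, hφ x⟩
    let q := Submodule.Quotient.equiv _ _ (φ j) hr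
    let c (i : ℤ) := Algebra.IsPushout.cancelBaseChange A (A ⧸ J) P P₀ ((kos l (base P)).X i)
    have hr2 : Submodule.map (c j : (P₀ ⊗[P] (kos l (base P)).X j) →ₗ[A ⧸ J] _)
        ((LinearMap.range (((kos l (base P)).d (j - 1) j).hom.baseChange P₀)).restrictScalars (A ⧸ J)) =
        LinearMap.range ((((kos l (base P)).d (j - 1) j).hom.restrictScalars A).baseChange (A ⧸ J)) := by
      ext z
      constructor
      · rintro ⟨_, ⟨x, rfl⟩, rfl⟩
        exact ⟨c (j - 1) x, cancel_comm J _ x⟩
      · rintro ⟨x, rfl⟩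
        obtain ⟨x, rfl⟩ := (c (j - 1)).surjective x
        exact ⟨_, ⟨x, rfl⟩, (cancel_comm J _ x).symm⟩
    let q2 := Submodule.Quotient.equiv _ _ (c j) hr2
    let q3 := Submodule.Quotient.restrictScalarsEquiv (A ⧸ J)
      (LinearMap.range (((kos l (base P)).d (j - 1) j).hom.baseChange P₀))
    exact Module.Flat.of_linearEquiv ((q2.symm.trans q3).trans (q.restrictScalars (A ⧸ J)))
  have hzero (i j k : ℤ) (x : (kos l (base P)).X i) :
      ((kos l (base P)).d j k).hom (((kos l (base P)).d i j).hom x) = 0 := by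
    have := (kos l (base P)).d_comp_d i j k
    exact congr($(this).hom x)
  constructor
  · rw [isKoszulRegularSeq_iff]
    intro i hi
    obtain ⟨j, rfl⟩ : ∃ j, i = j - 1 := ⟨i + 1, by ring⟩
    have := hcok j (by omega)
    have h1 := exact_of_baseChange J (((kos l (base P)).d (j - 1 - 1) (j - 1)).hom.restrictScalars A)
      (((kos l (base P)).d (j - 1) j).hom.restrictScalars A) hJ (fun x => hzero _ _ _ x)
      (hex' j (by omega))
    rw [← HomologicalComplex.exactAt_iff_isZero_homology,
      HomologicalComplex.exactAt_iff' _ (j - 1 - 1) (j - 1) j (by simp) (by simp)]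
    exact (ShortComplex.ShortExact.moduleCat_exact_iff_function_exact _).2 h1
  · have h0 := flat_coker_of_baseChange J (((kos l (base P)).d (0 - 1 - 1) (0 - 1)).hom.restrictScalars A)
      (((kos l (base P)).d (0 - 1) 0).hom.restrictScalars A) hJ (fun x => hzero _ _ _ x)
      (hex' 0 le_rfl) (hfl := hcok 0 le_rfl)
    obtain ⟨g, hg, hfg⟩ := exists_augmentation l
    have hk : LinearMap.range (((kos l (base P)).d (0 - 1) 0).hom.restrictScalars A) =
        LinearMap.ker (g.restrictScalars A) := by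
      ext z
      exact (hfg z).symm
    exact Module.Flat.of_linearEquiv ((Submodule.quotEquivOfEq _ _ hk).trans
      ((g.restrictScalars A).quotKerEquivOfSurjective hg)).symm

end Groth.Agent.SGA3.K211.KoszulLift
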