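import Groth.Agent.Divis.FinitePush
import Groth.Agent.Divis.ReflexAlg
import Groth.Agent.Divis.ExtendStalk
import Groth.Agent.PerfA.Restrict
import Groth.Prelude.Def_Pi1
import Mathlib.RingTheory.Flat.EquationalCriterion

/-!
# Extension of sections of flat quasi-coherent modules on normal schemes across codimension two
-/

set_option autoImplicit false
universe u
open CategoryTheory CategoryTheory.Limits AlgebraicGeometry TopologicalSpace Opposite

namespace Groth.Agent.SGA3.K211.NormHart

open AlgebraicGeometry.Scheme.Modules Groth.Agent.PerfA.Restrict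
open Groth.Agent.CohqB.QC2 Groth.Agent.Divis.DepthTwo Groth.Agent.Divis.ExtendTwo
open Groth.Agent.Divis.StalkMod

theorem regPair_of_flat {R : Type*} [CommRing R] {M : Type*} [AddCommGroup M] [Module R M] [Module.Flat R M]
    {a b : R} (h : RegPair a b R) : RegPair a b M := by
  constructor
  · intro x hx
    obtain ⟨k, c, y, h1, h2⟩ := Module.Flat.isTrivialRelation_of_sum_smul_eq_zero
      (f := fun _ : Fin 1 => a) (x := fun _ => x) (by simpa using hx)
    have h3 : ∀ j, c 0 j = 0 := fun j => h.inj _ (by simpa using h2 j)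
    have h4 := h1 0
    simpa [h3] using h4
  · intro x y hxy
    obtain ⟨k, c, z, h1, h2⟩ := Module.Flat.isTrivialRelation_of_sum_smul_eq_zero
      (f := ![b, -a]) (x := ![x, y]) (by simp [Fin.sum_univ_two, hxy])
    have h3 : ∀ j, ∃ d, c 0 j = a • d := by
      intro j
      apply h.div (c 0 j) (c 1 j)
      have := h2 j
      simp only [Fin.sum_univ_two, Matrix.cons_val_zero, Matrix.cons_val_one] at this
      rw [smul_eq_mul, smul_eq_mul]
      linear_combination this
    choose d hd using h3
    have h4 : x = ∑ j, c 0 j • z j := h1 0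
    refine ⟨∑ j, d j • z j, ?_⟩
    rw [h4, Finset.smul_sum]
    refine Finset.sum_congr rfl fun j _ => ?_
    rw [hd, smul_eq_mul, mul_smul]

variable {X : Scheme.{u}}

theorem flat_sections {A : X.Modules} (hA : Coh.IsQCoh A) (hfl : FlatMod.IsFlat A) {W : X.Opens}
    (hW : IsAffineOpen W) : Module.Flat Γ(X, W) Γ(A, W) := by
  refine Module.flat_of_localized_maximal _ fun P hP => ?_
  let P' : PrimeSpectrum Γ(X, W) := ⟨P, inferInstance⟩
  let x := hW.fromSpec P'
  have hxW : x ∈ W := by
    have : x ∈ hW.fromSpec.opensRange := ⟨P', rfl⟩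
    rwa [hW.opensRange_fromSpec] at this
  have hxP : hW.primeIdealOf ⟨x, hxW⟩ = P' := by
    apply hW.fromSpec.isOpenEmbedding.injective
    rw [hW.fromSpec_primeIdealOf]
  have key : Module.Flat Γ(X, W) (LocalizedModule (hW.primeIdealOf ⟨x, hxW⟩).asIdeal.primeCompl Γ(A, W)) := by
    refine stalk_elim A hA hW x hxW ?_
    intro i1 i2 i3 i4 l _ _ i5
    have h1 : Module.Flat (X.presheaf.stalk x) (A.presheaf.stalk x) := hfl x
    have h2 : Module.Flat Γ(X, W) (X.presheaf.stalk x) :=
      IsLocalization.flat _ (hW.primeIdealOf ⟨x, hxW⟩).asIdeal.primeCompl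
    have h3 : Module.Flat Γ(X, W) (A.presheaf.stalk x) := Module.Flat.trans _ (X.presheaf.stalk x) _
    exact Module.Flat.of_linearEquiv (IsLocalizedModule.iso (hW.primeIdealOf ⟨x, hxW⟩).asIdeal.primeCompl l)
  rw [hxP] at key
  exact key

theorem exists_regPair_stalk [IsLocallyNoetherian X] (hX : Pi1.IsNormalScheme X) (x : X)
    (h : ¬ ringKrullDim (X.presheaf.stalk x) ≤ 1) :
    ∃ a ∈ IsLocalRing.maximalIdeal (X.presheaf.stalk x), ∃ b ∈ IsLocalRing.maximalIdeal (X.presheaf.stalk x),
      RegPair a b (X.presheaf.stalk x) := by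
  obtain ⟨h1, h2⟩ := hX x
  refine Groth.Agent.Divis.ReflexAlg.exists_regPair_of_isIntegrallyClosed ?_
  rw [not_le] at h
  obtain ⟨d, hd⟩ := WithBot.ne_bot_iff_exists.1 (ne_bot_of_gt h)
  rw [← hd] at h ⊢
  have h' : (1 : ℕ∞) < d := by exact_mod_cast h
  have h'' : (2 : ℕ∞) ≤ d := by
    have := Order.add_one_le_of_lt h'
    rwa [one_add_one_eq_two] at this
  have e : (2 : WithBot ℕ∞) = ((2 : ℕ∞) : WithBot ℕ∞) := rfl
  rw [e]
  exact WithBot.coe_le_coe.2 h''

theorem isIso_unit_of_good {A : X.Modules} (hA : Coh.IsQCoh A) (U : X.Opens)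
    (h : ∀ W : X.Opens, IsAffineOpen W → Good A U W) :
    IsIso ((restrictAdjunction U.ι).unit.app A) := by
  rw [Hom.isIso_iff_isIso_app]
  intro W
  rw [restrictAdjunction_unit_app_app]
  have h := bijective_of_affine (M := A) U (fun W hW => by
    have hq : SheafOfModules.IsQuasicoherent (R := X.ringCatSheaf) A := hA
    exact (h W hW).bijective A (loc_of_isQuasicoherent A hW) hW) W
  have hW : U.ι ''ᵁ (U.ι ⁻¹ᵁ W) = W ⊓ U := by
    rw [Scheme.Hom.image_preimage_eq_opensRange_inf, Scheme.Opens.opensRange_ι, inf_comm]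
  have h2 : IsIso (A.presheaf.map (homOfLE (inf_le_left : W ⊓ U ≤ W)).op) := by
    rw [ConcreteCategory.isIso_iff_bijective]
    exact h
  have h3 : (homOfLE (U.ι.image_preimage_le W)).op =
      (homOfLE (inf_le_left : W ⊓ U ≤ W)).op ≫ (eqToHom hW).op := rfl
  have h4 : IsIso (A.presheaf.map (eqToHom hW).op) :=
    Functor.map_isIso A.presheaf (eqToHom hW).op
  rw [h3, Functor.map_comp]
  exact IsIso.comp_isIso' h2 h4

/-- A flat quasi-coherent module on a normal locally Noetherian scheme extends uniquely across a closed subset of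
codimension at least two. -/
theorem isIso_unit [IsLocallyNoetherian X] (hX : Pi1.IsNormalScheme X) {A : X.Modules} (hA : Coh.IsQCoh A)
    (hAfl : FlatMod.IsFlat A) (U : X.Opens)
    (hU : ∀ s : X, ringKrullDim (X.presheaf.stalk s) ≤ 1 → s ∈ U) :
    IsIso ((restrictAdjunction U.ι).unit.app A) := by
  refine isIso_unit_of_good hA U fun W hW => ?_
  obtain ⟨f, g, hf, hg, hfg⟩ := Groth.Agent.Divis.FinitePush.exists_regPair_functions U hW
    (fun x _ hx => exists_regPair_stalk hX x (fun h => hx (hU x h)))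
  have := flat_sections hA hAfl hW
  exact ⟨f, g, hf, hg, regPair_of_flat hfg⟩

end Groth.Agent.SGA3.K211.NormHart
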