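import Groth.Agent.SGA3.K211.GFun

/-!
# Stable submodules for a flat group scheme whose algebra of functions is projective
-/

set_option autoImplicit false
universe u
open CategoryTheory MonObj GrpObj AlgebraicGeometry Limits
open scoped TensorProduct

namespace Groth.Agent.SGA3.K211.GProj

open GCover GStable GFun

section Dual

variable {R : Type u} [CommRing R] {A : Type u} [AddCommGroup A] [Module R A]
  {E : Type u} [AddCommGroup E] [Module R E]

/-- Contraction `(φ ⊗ id) w` as a bilinear map. -/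
noncomputable def con (R : Type u) [CommRing R] (A : Type u) [AddCommGroup A] [Module R A]
    (E : Type u) [AddCommGroup E] [Module R E] : (A →ₗ[R] R) →ₗ[R] A ⊗[R] E →ₗ[R] E :=
  LinearMap.llcomp R _ _ _ (TensorProduct.lid R E).toLinearMap ∘ₗ LinearMap.rTensorHom E

@[simp] theorem con_tmul (φ : A →ₗ[R] R) (a : A) (e : E) : con R A E φ (a ⊗ₜ e) = φ a • e := by
  simp [con]

theorem con_apply (φ : A →ₗ[R] R) (w : A ⊗[R] E) : con R A E φ w = TensorProduct.lid R E (φ.rTensor E w) := rfl

theorem exists_sum [Module.Projective R A] (w : A ⊗[R] E) :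
    ∃ (s : Finset A) (φ : A → (A →ₗ[R] R)), w = ∑ a ∈ s, a ⊗ₜ[R] con R A E (φ a) w := by
  classical
  obtain ⟨s, hs⟩ := Module.projective_def'.1 ‹Module.Projective R A›
  let f : A →₀ E := TensorProduct.finsuppScalarLeft R E A (s.rTensor E w)
  refine ⟨f.support, fun a => Finsupp.lapply a ∘ₗ s, ?_⟩
  have h1 : ∀ a, f a = con R A E (Finsupp.lapply a ∘ₗ s) w := by
    intro a
    rw [con_apply, LinearMap.rTensor_comp, LinearMap.comp_apply]
    exact TensorProduct.finsuppScalarLeft_apply _ _
  have h2 : w = (Finsupp.linearCombination R (id : A → A)).rTensor E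
      ((TensorProduct.finsuppScalarLeft R E A).symm f) := by
    rw [LinearEquiv.symm_apply_apply, ← LinearMap.comp_apply, ← LinearMap.rTensor_comp, hs, LinearMap.rTensor_id]
    rfl
  conv_lhs => rw [h2, ← Finsupp.sum_single f, Finsupp.sum, map_sum, map_sum]
  refine Finset.sum_congr rfl fun a _ => ?_
  rw [TensorProduct.finsuppScalarLeft_symm_apply_single, LinearMap.rTensor_tmul, Finsupp.linearCombination_single,
    one_smul, h1]
  rfl

theorem mem_range_of_con [Module.Projective R A] (N : Submodule R E) (w : A ⊗[R] E)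
    (h : ∀ φ, con R A E φ w ∈ N) : w ∈ LinearMap.range (N.subtype.lTensor A) := by
  obtain ⟨s, φ, hs⟩ := exists_sum w
  rw [hs]
  exact Submodule.sum_mem _ fun a _ => ⟨a ⊗ₜ ⟨_, h (φ a)⟩, rfl⟩

theorem con_mem {N : Submodule R E} {w : A ⊗[R] E} (hw : w ∈ LinearMap.range (N.subtype.lTensor A))
    (φ : A →ₗ[R] R) : con R A E φ w ∈ N := by
  obtain ⟨y, rfl⟩ := hw
  induction y with
  | zero => simp
  | add x y hx hy => rw [map_add, map_add]; exact add_mem hx hy
  | tmul a n => rw [LinearMap.lTensor_tmul, con_tmul]; exact N.smul_mem _ n.2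

theorem range_con_fg [Module.Projective R A] (w : A ⊗[R] E) :
    (LinearMap.range ((con R A E).flip w)).FG := by
  classical
  obtain ⟨s, φ, hs⟩ := exists_sum w
  have h1 : LinearMap.range ((con R A E).flip w) = Submodule.span R (s.image fun a => con R A E (φ a) w) := by
    apply le_antisymm
    · rintro _ ⟨ψ, rfl⟩
      have h2 := congrArg (con R A E ψ) hs
      rw [map_sum] at h2
      rw [LinearMap.flip_apply, h2]
      refine Submodule.sum_mem _ fun a ha => ?_
      rw [con_tmul]
      exact Submodule.smul_mem _ _ (Submodule.subset_span (by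
        rw [Finset.coe_image]
        exact ⟨a, ha, rfl⟩))
    · rw [Submodule.span_le, Finset.coe_image]
      rintro _ ⟨a, _, rfl⟩
      exact ⟨φ a, rfl⟩
  rw [h1]
  exact ⟨_, rfl⟩

end Dual

section Main

variable {R : Type u} [CommRing R] {G : Over (Spec (CommRingCat.of R))} [GrpObj G]
  {E : Type u} [AddCommGroup E] [Module R E]

theorem ptMap_comp {B B' B'' : Type u} [CommRing B] [Algebra R B] [CommRing B'] [Algebra R B']
    [CommRing B''] [Algebra R B''] (ψ : B' →ₐ[R] B'') (φ : B →ₐ[R] B') :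
    VecGrp.ptMap ψ ≫ VecGrp.ptMap φ = VecGrp.ptMap (ψ.comp φ) := by
  ext1
  rw [Over.comp_left, VecGrp.ptMap_left, VecGrp.ptMap_left, VecGrp.ptMap_left, ← Spec.map_comp]
  rfl

theorem Wmap_act (m : VecGrp.GMod G E) {B B' : Type u} [CommRing B] [Algebra R B] [CommRing B'] [Algebra R B']
    (φ : B →ₐ[R] B') (g : VecGrp.pt R B ⟶ G) (x : E) :
    VecGrp.Wmap φ (act m g x) = act m (VecGrp.ptMap φ ≫ g) x := by
  rw [act_apply, act_apply, m.naturality, VecGrp.Wmap_tmul, map_one]

theorem Wmap_comp {B B' B'' : Type u} [CommRing B] [Algebra R B] [CommRing B'] [Algebra R B']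
    [CommRing B''] [Algebra R B''] (ψ : B' →ₐ[R] B'') (φ : B →ₐ[R] B') (y : B ⊗[R] E) :
    VecGrp.Wmap ψ (VecGrp.Wmap φ y) = VecGrp.Wmap (ψ.comp φ) y := by
  induction y with
  | zero => simp
  | add x y hx hy => simp only [map_add, hx, hy]
  | tmul b x => rfl

/-- The coaction of the algebra of functions. -/
theorem exists_coaction [Flat G.hom] [QuasiCompact G.hom] [QuasiSeparated G.hom] [Module.Flat R E]
    (m : VecGrp.GMod G E) : ∃ z : E →ₗ[R] (Fun G) ⊗[R] E,
      ∀ (B : Type u) [CommRing B] [Algebra R B] (g : VecGrp.pt R B ⟶ G) (x : E),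
        act m g x = VecGrp.Wmap (gs g) (z x) := by
  obtain ⟨C, _, _, u, C', _, _, p₁, p₂, -, -, hu, hp, hinj, hex⟩ := exists_cover₂ G
  let d : C →ₗ[R] C' := p₁.toLinearMap - p₂.toLinearMap
  have hd : Function.Exact (gs u).toLinearMap d := by
    intro f
    constructor
    · intro hf
      exact hex f (sub_eq_zero.1 hf)
    · rintro ⟨a, rfl⟩
      change p₁ (gs u a) - p₂ (gs u a) = 0
      have h1 := AlgHom.congr_fun (gs_comp p₁ u) a
      have h2 := AlgHom.congr_fun (gs_comp p₂ u) a
      rw [hp, h2] at h1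
      rw [sub_eq_zero]
      exact h1.symm
  have hdE : Function.Exact ((gs u).toLinearMap.rTensor E) (d.rTensor E) := Module.Flat.rTensor_exact E hd
  have hiE : Function.Injective ((gs u).toLinearMap.rTensor E) :=
    Module.Flat.rTensor_preserves_injective_linearMap (M := E) _ hinj
  have hmem : ∀ x, act m u x ∈ LinearMap.range ((gs u).toLinearMap.rTensor E) := by
    intro x
    refine (hdE _).1 ?_
    rw [LinearMap.rTensor_sub, LinearMap.sub_apply, sub_eq_zero]
    exact (Wmap_act m p₁ u x).trans ((congrArg (fun t => act m t x) hp).trans (Wmap_act m p₂ u x).symm)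
  let z : E →ₗ[R] (Fun G) ⊗[R] E := (LinearEquiv.ofInjective _ hiE).symm.toLinearMap ∘ₗ
    (act m u).codRestrict _ hmem
  have hz : ∀ x, VecGrp.Wmap (gs u) (z x) = act m u x := by
    intro x
    exact congrArg Subtype.val ((LinearEquiv.ofInjective _ hiE).apply_symm_apply ⟨act m u x, hmem x⟩)
  refine ⟨z, fun B _ _ g x => ?_⟩
  apply eq_of_local
  intro P _
  obtain ⟨h, hh⟩ := hu B g P
  rw [Wmap_act, hh, ← Wmap_act, ← hz, Wmap_comp, Wmap_comp, ← gs_comp, ← gs_comp, hh]

theorem gs_mul_mem [Flat G.hom] [QuasiCompact G.hom] [QuasiSeparated G.hom]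
    (hA : Module.Flat R (Fun G)) : ∃ (C : Type u) (_ : CommRing C) (_ : Algebra R C) (u : VecGrp.pt R C ⟶ G),
      Module.Flat R C ∧ Function.Injective (gs u) ∧ ∀ a : Fun G, ∃ v : Fun G ⊗[R] Fun G,
        TensorProduct.map (gs u).toLinearMap (gs u).toLinearMap v =
        gs ((VecGrp.ptMap (Algebra.TensorProduct.includeRight : C →ₐ[R] C ⊗[R] C) ≫ u) *
          (VecGrp.ptMap (Algebra.TensorProduct.includeLeft : C →ₐ[R] C ⊗[R] C) ≫ u)) a := by
  obtain ⟨C, _, _, u, C', _, _, p₁, p₂, hC, hC', hu, hp, hinj, hex⟩ := exists_cover₂ G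
  refine ⟨C, _, _, u, hC, hinj, fun a => ?_⟩
  let d : C →ₗ[R] C' := p₁.toLinearMap - p₂.toLinearMap
  have hd : Function.Exact (gs u).toLinearMap d := by
    intro f
    constructor
    · intro hf
      exact hex f (sub_eq_zero.1 hf)
    · rintro ⟨a, rfl⟩
      change p₁ (gs u a) - p₂ (gs u a) = 0
      have h1 := AlgHom.congr_fun (gs_comp p₁ u) a
      have h2 := AlgHom.congr_fun (gs_comp p₂ u) a
      rw [hp, h2] at h1
      rw [sub_eq_zero]
      exact h1.symm
  have hfac : ∀ {B : Type u} [CommRing B] [Algebra R B] (φ ψ φ' ψ' : C →ₐ[R] B),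
      VecGrp.ptMap φ ≫ u = VecGrp.ptMap φ' ≫ u → VecGrp.ptMap ψ ≫ u = VecGrp.ptMap ψ' ≫ u →
      (Algebra.TensorProduct.lift φ ψ fun _ _ => Commute.all _ _) (gs ((VecGrp.ptMap (Algebra.TensorProduct.includeRight : C →ₐ[R] C ⊗[R] C) ≫ u) *
          (VecGrp.ptMap (Algebra.TensorProduct.includeLeft : C →ₐ[R] C ⊗[R] C) ≫ u)) a) =
      (Algebra.TensorProduct.lift φ' ψ' fun _ _ => Commute.all _ _) (gs ((VecGrp.ptMap (Algebra.TensorProduct.includeRight : C →ₐ[R] C ⊗[R] C) ≫ u) *
          (VecGrp.ptMap (Algebra.TensorProduct.includeLeft : C →ₐ[R] C ⊗[R] C) ≫ u)) a) := by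
    intro B _ _ φ ψ φ' ψ' h h'
    rw [← AlgHom.comp_apply, ← AlgHom.comp_apply, ← gs_comp, ← gs_comp]
    congr 2
    have key : ∀ (φ ψ : C →ₐ[R] B), VecGrp.ptMap (Algebra.TensorProduct.lift φ ψ fun _ _ => Commute.all _ _) ≫
        ((VecGrp.ptMap (Algebra.TensorProduct.includeRight : C →ₐ[R] C ⊗[R] C) ≫ u) *
          (VecGrp.ptMap (Algebra.TensorProduct.includeLeft : C →ₐ[R] C ⊗[R] C) ≫ u)) =
        (VecGrp.ptMap ψ ≫ u) * (VecGrp.ptMap φ ≫ u) := by
      intro φ ψ
      have e₁ : (Algebra.TensorProduct.lift φ ψ fun _ _ => Commute.all _ _).comp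
          (Algebra.TensorProduct.includeLeft : C →ₐ[R] C ⊗[R] C) = φ := by ext; simp
      have e₂ : (Algebra.TensorProduct.lift φ ψ fun _ _ => Commute.all _ _).comp
          (Algebra.TensorProduct.includeRight : C →ₐ[R] C ⊗[R] C) = ψ := by ext; simp
      rw [MonObj.comp_mul, ← Category.assoc, ← Category.assoc, ptMap_comp, ptMap_comp, e₁, e₂]
    rw [key, key, h, h']
  have hl : ∀ (p : C →ₐ[R] C') (w : C ⊗[R] C), Algebra.TensorProduct.lift
      ((Algebra.TensorProduct.includeLeft : C' →ₐ[R] C' ⊗[R] C).comp p)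
      (Algebra.TensorProduct.includeRight : C →ₐ[R] C' ⊗[R] C) (fun _ _ => Commute.all _ _) w =
      p.toLinearMap.rTensor C w := by
    intro p w
    induction w with
    | zero => simp
    | add x y hx hy => simp only [map_add, hx, hy]
    | tmul x y => simp
  have hr : ∀ (p : C →ₐ[R] C') (w : C ⊗[R] C), Algebra.TensorProduct.lift
      (Algebra.TensorProduct.includeLeft : C →ₐ[R] C ⊗[R] C')
      ((Algebra.TensorProduct.includeRight : C' →ₐ[R] C ⊗[R] C').comp p) (fun _ _ => Commute.all _ _) w =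
      p.toLinearMap.lTensor C w := by
    intro p w
    induction w with
    | zero => simp
    | add x y hx hy => simp only [map_add, hx, hy]
    | tmul x y => simp
  refine exists_tensor_eq _ d hinj hd _ ?_ ?_
  · rw [LinearMap.rTensor_sub, LinearMap.sub_apply, sub_eq_zero, ← hl, ← hl]
    refine hfac _ _ _ _ ?_ rfl
    rw [← ptMap_comp, ← ptMap_comp, Category.assoc, Category.assoc, hp]
  · rw [LinearMap.lTensor_sub, LinearMap.sub_apply, sub_eq_zero, ← hr, ← hr]
    refine hfac _ _ _ _ rfl ?_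
    rw [← ptMap_comp, ← ptMap_comp, Category.assoc, Category.assoc, hp]

/-- Coassociativity, in the form used: `(id ⊗ z)(z x)` lies in the image of `(A ⊗ A) ⊗ N`. -/
theorem lTensor_coaction_mem [Flat G.hom] [QuasiCompact G.hom] [QuasiSeparated G.hom] [Module.Flat R E]
    (hA : Module.Flat R (Fun G)) (m : VecGrp.GMod G E) (z : E →ₗ[R] (Fun G) ⊗[R] E)
    (hz : ∀ (B : Type u) [CommRing B] [Algebra R B] (g : VecGrp.pt R B ⟶ G) (x : E),
        act m g x = VecGrp.Wmap (gs g) (z x)) (N : Submodule R E) (x : E)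
    (hx : z x ∈ LinearMap.range (N.subtype.lTensor (Fun G))) :
    (z.lTensor (Fun G)) (z x) ∈ LinearMap.range ((N.subtype.lTensor (Fun G)).lTensor (Fun G)) := by
  obtain ⟨C, _, _, u, hC, hinj, hmul⟩ := gs_mul_mem (G := G) hA
  obtain ⟨y, hy⟩ := hx
  -- the element `Σ Δ(a_i) ⊗ x_i`
  have h1 : ∀ y : Fun G ⊗[R] N, ∃ v : (Fun G ⊗[R] Fun G) ⊗[R] N,
      (TensorProduct.map (gs u).toLinearMap (gs u).toLinearMap).rTensor N v =
      (gs ((VecGrp.ptMap (Algebra.TensorProduct.includeRight : C →ₐ[R] C ⊗[R] C) ≫ u) *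
          (VecGrp.ptMap (Algebra.TensorProduct.includeLeft : C →ₐ[R] C ⊗[R] C) ≫ u))).toLinearMap.rTensor N y := by
    intro y
    induction y with
    | zero => exact ⟨0, by simp⟩
    | add x y hx hy =>
      obtain ⟨v, hv⟩ := hx
      obtain ⟨w, hw⟩ := hy
      exact ⟨v + w, by rw [map_add, map_add, hv, hw]⟩
    | tmul a n =>
      obtain ⟨v, hv⟩ := hmul a
      exact ⟨v ⊗ₜ n, by rw [LinearMap.rTensor_tmul, hv]; rfl⟩
  obtain ⟨v, hv⟩ := h1 y
  let I : Fun G ⊗[R] Fun G →ₗ[R] C ⊗[R] C := TensorProduct.map (gs u).toLinearMap (gs u).toLinearMap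
  have hI : Function.Injective I := by
    have e : I = (gs u).toLinearMap.lTensor C ∘ₗ (gs u).toLinearMap.rTensor (Fun G) :=
      (LinearMap.lTensor_comp_rTensor _ _ _).symm
    rw [e]
    exact (Module.Flat.lTensor_preserves_injective_linearMap (M := C) _ hinj).comp
      (Module.Flat.rTensor_preserves_injective_linearMap (M := Fun G) _ hinj)
  have hIE : Function.Injective (I.rTensor E) :=
    Module.Flat.rTensor_preserves_injective_linearMap (M := E) _ hI
  have h2 : ∀ y : Fun G ⊗[R] E, TensorProduct.assoc R C C E (I.rTensor E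
      ((TensorProduct.assoc R (Fun G) (Fun G) E).symm (z.lTensor (Fun G) y))) =
      (act m u).lTensor C (VecGrp.Wmap (gs u) y) := by
    intro y
    induction y with
    | zero => simp
    | add x y hx hy => simp only [map_add, hx, hy]
    | tmul a e =>
      rw [VecGrp.Wmap_tmul, LinearMap.lTensor_tmul, LinearMap.lTensor_tmul, hz]
      generalize z e = w
      induction w with
      | zero => simp
      | add x y hx hy => simp only [map_add, TensorProduct.tmul_add, hx, hy]
      | tmul b e' => rfl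
  have h3 : ∀ (N' : Submodule R E) (v : (Fun G ⊗[R] Fun G) ⊗[R] N'),
      I.rTensor E (N'.subtype.lTensor (Fun G ⊗[R] Fun G) v) = N'.subtype.lTensor (C ⊗[R] C) (I.rTensor N' v) := by
    intro N' v
    rw [← LinearMap.comp_apply, ← LinearMap.comp_apply, LinearMap.rTensor_comp_lTensor,
      LinearMap.lTensor_comp_rTensor]
  refine ⟨TensorProduct.assoc R (Fun G) (Fun G) N v, ?_⟩
  have h4 : (N.subtype.lTensor (Fun G)).lTensor (Fun G) (TensorProduct.assoc R (Fun G) (Fun G) N v) =
      TensorProduct.assoc R (Fun G) (Fun G) E (N.subtype.lTensor (Fun G ⊗[R] Fun G) v) := by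
    generalize v = w
    induction w with
    | zero => simp
    | add x y hx hy => simp only [map_add, hx, hy]
    | tmul w n =>
      induction w with
      | zero => simp
      | add x y hx hy => simp only [map_add, TensorProduct.add_tmul, hx, hy]
      | tmul a b => rfl
  rw [h4]
  apply (TensorProduct.assoc R (Fun G) (Fun G) E).symm.injective
  rw [LinearEquiv.symm_apply_apply]
  apply hIE
  apply (TensorProduct.assoc R C C E).injective
  rw [h2, h3, ← hz, ← act_mul_eq, hz, ← hy, hv]
  congr 1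
  generalize y = w
  induction w with
  | zero => simp
  | add x y hx hy => simp only [map_add, hx, hy]
  | tmul a n => rfl

theorem exists_stable_of_projective [Flat G.hom] [QuasiCompact G.hom] [QuasiSeparated G.hom]
    [Module.Flat R E] (hA : Module.Projective R (Fun G)) (m : VecGrp.GMod G E) (M : Submodule R E) (hM : M.FG) :
    ∃ N : Submodule R E, M ≤ N ∧ N.FG ∧
      ∀ (B : Type u) [CommRing B] [Algebra R B] (g : VecGrp.pt R B ⟶ G) (x : E), x ∈ N →
        m.ρ B g ((1 : B) ⊗ₜ[R] x) ∈ LinearMap.range (N.subtype.baseChange B) := by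
  classical
  obtain ⟨z, hz⟩ := exists_coaction m
  obtain ⟨s, hs⟩ := hM
  let K : E → Submodule R E := fun x => LinearMap.range ((con R (Fun G) E).flip (z x))
  let N : Submodule R E := s.sup K
  have hmono : ∀ {A' : Type u} [AddCommGroup A'] [Module R A'] {N₁ N₂ : Submodule R E} (_ : N₁ ≤ N₂),
      LinearMap.range (N₁.subtype.lTensor A') ≤ LinearMap.range (N₂.subtype.lTensor A') := by
    intro A' _ _ N₁ N₂ h
    rintro _ ⟨y, rfl⟩
    refine ⟨(Submodule.inclusion h).lTensor A' y, ?_⟩
    rw [← LinearMap.comp_apply, ← LinearMap.lTensor_comp]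
    rfl
  have hzs : ∀ x ∈ s, z x ∈ LinearMap.range (N.subtype.lTensor (Fun G)) := by
    intro x hx
    refine hmono (Finset.le_sup (f := K) hx) (mem_range_of_con _ _ fun φ => ⟨φ, rfl⟩)
  have hzN : ∀ x ∈ N, z x ∈ LinearMap.range (N.subtype.lTensor (Fun G)) := by
    have hle : N ≤ (LinearMap.range (N.subtype.lTensor (Fun G))).comap z := by
      refine Finset.sup_le fun x hx => ?_
      rintro _ ⟨φ, rfl⟩
      rw [Submodule.mem_comap, LinearMap.flip_apply]
      have h1 := lTensor_coaction_mem inferInstance m z hz N x (hzs x hx)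
      have h2 : ∀ y : Fun G ⊗[R] E, z (con R (Fun G) E φ y) = con R (Fun G) (Fun G ⊗[R] E) φ (z.lTensor (Fun G) y) := by
        intro y
        induction y with
        | zero => simp
        | add x y hx hy => simp only [map_add, hx, hy]
        | tmul a e => rw [con_tmul, LinearMap.lTensor_tmul, con_tmul, map_smul]
      rw [h2]
      obtain ⟨v, hv⟩ := h1
      rw [← hv]
      have h3 : ∀ v : Fun G ⊗[R] (Fun G ⊗[R] N), con R (Fun G) (Fun G ⊗[R] E) φ
          ((N.subtype.lTensor (Fun G)).lTensor (Fun G) v) =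
          N.subtype.lTensor (Fun G) (con R (Fun G) (Fun G ⊗[R] N) φ v) := by
        intro v
        induction v with
        | zero => simp
        | add x y hx hy => simp only [map_add, hx, hy]
        | tmul a e => rw [con_tmul, LinearMap.lTensor_tmul, con_tmul, map_smul]
      rw [h3]
      exact ⟨_, rfl⟩
    exact hle
  refine ⟨N, ?_, Submodule.fg_finset_sup s K fun x _ => range_con_fg _, ?_⟩
  · rw [← hs, Submodule.span_le]
    intro x hx
    have h1 := con_mem (hzs x hx) (gs (1 : VecGrp.pt R R ⟶ G)).toLinearMap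
    have h2 := hz R 1 x
    rw [act_apply, map_one] at h2
    have h3 : con R (Fun G) E (gs (1 : VecGrp.pt R R ⟶ G)).toLinearMap (z x) = x := by
      change TensorProduct.lid R E (VecGrp.Wmap (gs (1 : VecGrp.pt R R ⟶ G)) (z x)) = x
      rw [← h2]
      change TensorProduct.lid R E ((1 : R) ⊗ₜ x) = x
      rw [TensorProduct.lid_tmul, one_smul]
    rw [h3] at h1
    exact h1
  · intro B _ _ g x hx
    obtain ⟨y, hy⟩ := hzN x hx
    rw [← act_apply, hz, ← hy]
    refine ⟨(gs g).toLinearMap.rTensor N y, ?_⟩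
    generalize y = w
    induction w with
    | zero => simp
    | add x y hx hy => simp only [map_add, hx, hy]
    | tmul a n => rfl

end Main

end Groth.Agent.SGA3.K211.GProj
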