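import Groth.Agent.SGA3.K211.NormHart
import Groth.Agent.SDiv.K476.HomSh4
import Groth.Agent.CohqB.QC6
import Groth.Agent.Ega1.QCohLoc
import Groth.Agent.PerfB.PCLift
import Groth.Agent.Ega2.QCohLocal
import Mathlib.RingTheory.Flat.TorsionFree

/-!
# The reflexive hull of a finite type submodule of a flat module over a normal scheme
-/

set_option autoImplicit false
universe u
open CategoryTheory CategoryTheory.Limits AlgebraicGeometry TopologicalSpace Opposite

namespace Groth.Agent.SGA3.K211.RefFlat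

open AlgebraicGeometry.Scheme.Modules Groth.Agent.PerfA.Restrict
open Groth.Agent.CohqB.QC2 Groth.Agent.Divis.DepthTwo Groth.Agent.Divis.ExtendTwo
open Groth.Agent.Divis.StalkMod NormHart RefHull K476.HomSh1 K476.HomSh3 K476.HomSh4

variable {X : Scheme.{u}}

/-- A submodule of finite type of a quasi-coherent module is quasi-coherent. -/
theorem isQCoh_of_isFT_of_mono {A F : X.Modules} (hA : Coh.IsQCoh A) (i : F ⟶ A) [Mono i]
    (hF : CohB1.IsFT F) : Coh.IsQCoh F := by
  choose V n p hx hp using fun x : X => Groth.Agent.PerfB.PCLift.exists_epi_freeMod F hF x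
  refine Groth.Agent.Ega1.QCohLoc.isQCoh_of_cover F (fun x : X => (V x : Scheme.{u})) (fun x => (V x).ι) ?_ ?_
  · intro x
    exact ⟨x, ⟨⟨x, hx x⟩, rfl⟩⟩
  · intro x
    have h1 : Coh.IsQCoh (A.restrict (V x).ι) := by
      have : Coh.IsQCoh A := hA
      exact Groth.Agent.Ega1.QCohLoc.isQCoh_restrict A (V x).ι
    have h2 : Mono ((restrictFunctor (V x).ι).map i) := inferInstance
    have h3 := hp x
    exact Groth.Agent.CohqB.QC6.isQCoh_of_epi_of_mono (p x) ((restrictFunctor (V x).ι).map i)
      (Groth.Agent.Ega2.QCohLocal.isQCoh_freeMod _ _) h1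

theorem flat_of_dim_le_one {R : Type*} [CommRing R] [IsDomain R] [IsNoetherianRing R] [IsIntegrallyClosed R]
    (hdim : ringKrullDim R ≤ 1) {M N : Type*} [AddCommGroup M] [Module R M] [AddCommGroup N] [Module R N]
    [Module.Flat R N] (f : M →ₗ[R] N) (hf : Function.Injective f) : Module.Flat R M := by
  have : Ring.KrullDimLE 1 R := (Ring.krullDimLE_iff).2 hdim
  have : Ring.DimensionLEOne R := ⟨fun {P} hP hP' ↦ Ideal.isMaximal_of_isPrime_of_ne_bot P hP⟩
  have : IsDedekindDomain R := {}
  have h1 : Module.IsTorsionFree R N := inferInstance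
  have h2 : Module.IsTorsionFree R M := hf.moduleIsTorsionFree f (fun r m => map_smul f r m)
  infer_instance

theorem isFlatAt_of_dim_le_one [IsLocallyNoetherian X] (hX : Pi1.IsNormalScheme X) {A F : X.Modules}
    (hA : FlatMod.IsFlat A) (i : F ⟶ A) [Mono i] (x : X) (h : ringKrullDim (X.presheaf.stalk x) ≤ 1) :
    FlatMod.IsFlatAt F x := by
  obtain ⟨h1, h2⟩ := hX x
  have h3 : Module.Flat (X.presheaf.stalk x) (A.presheaf.stalk x) := hA x
  exact flat_of_dim_le_one h (Groth.Agent.CycB.StalkExact.stalkLin i x)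
    (Groth.Agent.CycB.StalkExact.stalkLin_injective i x)

/-- Double duals extend across a closed subset of codimension at least two. -/
theorem isIso_unit_ddual [IsLocallyNoetherian X] (hX : Pi1.IsNormalScheme X) {F : X.Modules} (hF : Coh.IsCoh F)
    (U : X.Opens) (hU : ∀ s : X, ringKrullDim (X.presheaf.stalk s) ≤ 1 → s ∈ U) :
    IsIso ((restrictAdjunction U.ι).unit.app (ddual F)) := by
  refine isIso_unit_of_good (isCoh_ddual hF).1 U fun W hW => ?_
  refine Groth.Agent.Divis.ExtendStalk.good_of_stalk (isCoh_ddual hF) U hW fun x _ hx => ?_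
  obtain ⟨a, ha, b, hb, hab⟩ := exists_regPair_stalk hX x (fun h => hx (hU x h))
  exact ⟨a, ha, b, hb, (hab.hom (N := (dual F).presheaf.stalk x)).congr
    (dualStalkEquiv (dual F) (isFP_of_isCoh (isCoh_dual hF)) x).symm⟩

theorem isIso_restrict_map {F G : X.Modules} (φ : F ⟶ G)
    (U : X.Opens) (hU : ∀ s ∈ U, Function.Bijective (stalkMapₗ φ s)) :
    IsIso ((restrictFunctor U.ι).map φ) := by
  rw [Hom.isIso_iff_isIso_app]
  intro V
  have h1 : Function.Bijective (φ.app (U.ι ''ᵁ V)) := by
    refine bijective_app_of_stalk _ fun x hx => ?_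
    have hxU : x ∈ U := by
      obtain ⟨y, _, rfl⟩ := hx
      exact y.2
    exact hU x hxU
  have h2 : IsIso (φ.app (U.ι ''ᵁ V)) := by
    rw [ConcreteCategory.isIso_iff_bijective]
    exact h1
  exact h2

theorem isIso_restrict_bidualMap [IsLocallyNoetherian X] {F : X.Modules} (hF : Coh.IsCoh F)
    (U : X.Opens) (hU : ∀ s ∈ U, FlatMod.IsFlatAt F s) :
    IsIso ((restrictFunctor U.ι).map (bidualMap F)) := by
  refine isIso_restrict_map _ U fun x hx => ?_
  apply bijective_stalkMapₗ_bidualMap_of_free hF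
  have h2 : Module.Flat (X.presheaf.stalk x) (F.presheaf.stalk x) := hU x hx
  have h3 : Module.Finite (X.presheaf.stalk x) (F.presheaf.stalk x) :=
    Groth.Agent.Divis.StalkMod.finite_stalk hF x
  have h4 : Module.FinitePresentation (X.presheaf.stalk x) (F.presheaf.stalk x) :=
    Module.finitePresentation_of_finite _ _
  exact Module.free_of_flat_of_isLocalRing

/-- Abstract form of the comparison. -/
theorem exists_iso {F D : X.Modules} (b : F ⟶ D) (U : X.Opens)
    (h1 : IsIso ((restrictAdjunction U.ι).unit.app D)) (h2 : IsIso ((restrictFunctor U.ι).map b)) :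
    ∃ e : D ≅ (Scheme.Modules.pushforward U.ι).obj (F.restrict U.ι),
      b ≫ e.hom = (Scheme.Modules.restrictAdjunction U.ι).unit.app F := by
  refine ⟨asIso ((restrictAdjunction U.ι).unit.app D) ≪≫
    (Scheme.Modules.pushforward U.ι).mapIso (asIso ((restrictFunctor U.ι).map b)).symm, ?_⟩
  have h3 := (restrictAdjunction U.ι).unit.naturality b
  simp only [Iso.trans_hom, asIso_hom, Functor.mapIso_hom, Iso.symm_hom, asIso_inv]
  rw [← Category.assoc]
  change ((𝟭 _).map b ≫ (restrictAdjunction U.ι).unit.app D) ≫ _ = _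
  rw [h3, Category.assoc]
  change _ ≫ (Scheme.Modules.pushforward U.ι).map ((restrictFunctor U.ι).map b) ≫ _ = _
  rw [← Functor.map_comp, IsIso.hom_inv_id, CategoryTheory.Functor.map_id]
  exact Category.comp_id _

theorem main [IsLocallyNoetherian X] (hX : Pi1.IsNormalScheme X) {A F : X.Modules} (hA : Coh.IsQCoh A)
    (hAfl : FlatMod.IsFlat A) (i : F ⟶ A) [Mono i] (hF : CohB1.IsFT F) (U : X.Opens)
    (hU : (U : Set X) = {s : X | FlatMod.IsFlatAt F s}) :
    ∃ e : RefHull.ddual F ≅ (Scheme.Modules.pushforward U.ι).obj (F.restrict U.ι),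
      RefHull.bidualMap F ≫ e.hom = (Scheme.Modules.restrictAdjunction U.ι).unit.app F := by
  have hc : Coh.IsCoh F := ⟨isQCoh_of_isFT_of_mono hA i hF, hF⟩
  have hmem : ∀ s : X, s ∈ U ↔ FlatMod.IsFlatAt F s := fun s => by
    rw [← SetLike.mem_coe, hU]
    rfl
  have h1 : IsIso ((restrictAdjunction U.ι).unit.app (ddual F)) :=
    isIso_unit_ddual hX hc U fun s hs => (hmem s).2 (isFlatAt_of_dim_le_one hX hAfl i s hs)
  have h2 : IsIso ((restrictFunctor U.ι).map (bidualMap F)) :=
    isIso_restrict_bidualMap hc U fun s hs => (hmem s).1 hs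
  exact exists_iso (bidualMap F) U h1 h2

end Groth.Agent.SGA3.K211.RefFlat
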