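import Groth.Agent.Sga3.H829.IdemTensor
import Mathlib.RingTheory.Nullstellensatz
import Mathlib.LinearAlgebra.Lagrange
import Mathlib.FieldTheory.Separable
import Mathlib.FieldTheory.IsAlgClosed.Basic

/-!
# Idempotents of tensor products over an algebraically closed field

* `idem_mem_span`: `k` algebraically closed, `A` of finite type: every idempotent of `B ⊗ A` is a linear
  combination of tensors `b ⊗ a` with `b`, `a` idempotent.
* `isSeparable_of_idem`, `mem_span_idem_of_isSeparable`: elements of `A` separable over `k` and idempotents.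
-/

set_option autoImplicit false
universe u v w

open TensorProduct Polynomial

namespace Groth.Agent.SGA3.K211.IdemSpan

open Groth.Agent.Sga3A.GeomConn

/-- A nonzero algebra of finite type over an algebraically closed field has a rational point. -/
theorem exists_point {k : Type u} {B : Type v} [Field k] [IsAlgClosed k] [CommRing B] [Nontrivial B] [Algebra k B]
    [Algebra.FiniteType k B] : Nonempty (B →ₐ[k] k) := by
  obtain ⟨m, hm⟩ := Ideal.exists_maximal B
  let _ : Field (B ⧸ m) := Ideal.Quotient.field m
  have h1 : Algebra.FiniteType k (B ⧸ m) := inferInstance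
  have h2 : Module.Finite k (B ⧸ m) := finite_of_finite_type_of_isJacobsonRing k (B ⧸ m)
  have h3 : Function.Bijective (algebraMap k (B ⧸ m)) := IsAlgClosed.algebraMap_bijective_of_isIntegral
  let e : k ≃ₐ[k] (B ⧸ m) := AlgEquiv.ofBijective (Algebra.ofId k (B ⧸ m)) h3
  exact ⟨(e.symm : (B ⧸ m) →ₐ[k] k).comp (Ideal.Quotient.mkₐ k m)⟩

variable {k : Type u} [Field k] {B : Type v} {A : Type w} [CommRing B] [Algebra k B] [CommRing A]
  [Algebra k A]

variable (k B A) in
/-- tensors of idempotents -/
def idemT : Set (B ⊗[k] A) := {t | ∃ b a, IsIdempotentElem b ∧ IsIdempotentElem a ∧ b ⊗ₜ a = t}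

/-- multiplication by an idempotent `e` on `A / (1 - e)` -/
noncomputable def mulE (e : A) (he : IsIdempotentElem e) : (A ⧸ Ideal.span {1 - e}) →ₗ[k] A :=
  Submodule.liftQ ((Ideal.span {1 - e}).restrictScalars k) (LinearMap.mulRight k e) (by
    intro x hx
    rw [Submodule.restrictScalars_mem, Ideal.mem_span_singleton'] at hx
    obtain ⟨a, rfl⟩ := hx
    rw [LinearMap.mem_ker, LinearMap.mulRight_apply, mul_assoc, sub_mul, one_mul, he, sub_self, mul_zero])

theorem mulE_mk (e : A) (he : IsIdempotentElem e) (a : A) :
    mulE (k := k) e he (Ideal.Quotient.mk _ a) = a * e := rfl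

theorem mulE_map (e : A) (he : IsIdempotentElem e) (x : B ⊗[k] A) :
    (mulE (k := k) e he).lTensor B
      (Algebra.TensorProduct.map (AlgHom.id k B) (Ideal.Quotient.mkₐ k (Ideal.span {1 - e})) x) =
      x * (1 ⊗ₜ e) := by
  induction x with
  | zero => simp
  | add x y hx hy => rw [map_add, map_add, hx, hy, add_mul]
  | tmul b a =>
    rw [Algebra.TensorProduct.map_tmul, LinearMap.lTensor_tmul, Algebra.TensorProduct.tmul_mul_tmul, mul_one]
    rfl

theorem mul_mem_span [IsAlgClosed k] [Algebra.FiniteType k A] (f : B ⊗[k] A) (hf : IsIdempotentElem f) :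
    ∀ (I : Ideal A) (e : A), IsIdempotentElem e → I = Ideal.span {1 - e} →
      f * (1 ⊗ₜ e) ∈ Submodule.span k (idemT k B A) := by
  have : IsNoetherianRing A := Algebra.FiniteType.isNoetherianRing k A
  intro I
  induction I using WellFoundedGT.induction with
  | ind I ih =>
  intro e he hI
  by_cases h0 : e = 0
  · rw [h0, tmul_zero, mul_zero]; exact Submodule.zero_mem _
  have hnt : Nontrivial (A ⧸ I) := by
    rw [Ideal.Quotient.nontrivial_iff, hI, Ne, Ideal.span_singleton_eq_top]
    intro hu
    apply h0
    have : (1 - e) * e = 0 := by rw [sub_mul, one_mul, he, sub_self]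
    exact (hu.mul_right_eq_zero).1 this
  by_cases hc : ∀ g : A ⧸ I, IsIdempotentElem g → g = 0 ∨ g = 1
  · subst hI
    have := connectedSpace_of_idempotents _ hc
    obtain ⟨ε⟩ := exists_point (k := k) (B := A ⧸ Ideal.span {1 - e})
    have h1 := Groth.Agent.Sga3.H829.IdemTensor.eq_tmul_of_isIdempotentElem ε
      (Algebra.TensorProduct.map (AlgHom.id k B) (Ideal.Quotient.mkₐ k (Ideal.span {1 - e})) f)
      (hf.map _)
    have h2 := mulE_map (k := k) (B := B) e he f
    rw [h1, LinearMap.lTensor_tmul] at h2
    rw [← h2]
    have h3 : mulE (k := k) e he 1 = e := by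
      have := mulE_mk (k := k) e he 1
      rwa [map_one, one_mul] at this
    rw [h3]
    exact Submodule.subset_span ⟨_, e, (hf.map _).map _, he, rfl⟩
  · push Not at hc
    obtain ⟨g, hg, hg0, hg1⟩ := hc
    obtain ⟨a, rfl⟩ := Ideal.Quotient.mk_surjective g
    have hea : e * (a * a) = e * a := by
      have h1 : a * a - a ∈ I := by
        rw [← Ideal.Quotient.eq, map_mul]; exact hg
      rw [hI, Ideal.mem_span_singleton'] at h1
      obtain ⟨c, hc⟩ := h1
      have h2 : e * (a * a - a) = 0 := by
        rw [← hc]
        have : e * (c * (1 - e)) = c * (e - e * e) := by ring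
        rw [this, he, sub_self, mul_zero]
      linear_combination h2
    have hmk : Ideal.Quotient.mk I e = 1 := by
      rw [← map_one (Ideal.Quotient.mk I), eq_comm, Ideal.Quotient.eq, hI]
      exact Ideal.subset_span rfl
    have hg' : IsIdempotentElem (e * a) := by
      change e * a * (e * a) = e * a
      have : e * a * (e * a) = e * e * (a * a) := by ring
      rw [this, he, hea]
    have hg'' : IsIdempotentElem (e * (1 - a)) := by
      change e * (1 - a) * (e * (1 - a)) = e * (1 - a)
      have : e * (1 - a) * (e * (1 - a)) = e * e * (1 - a) - e * e * a + e * e * (a * a) := by ring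
      rw [this, he, hea]; ring
    have hsum : f * ((1 : B) ⊗ₜ e) = f * (1 ⊗ₜ (e * a)) + f * (1 ⊗ₜ (e * (1 - a))) := by
      rw [← mul_add, ← tmul_add]; congr 2; ring
    rw [hsum]
    refine Submodule.add_mem _ (ih (Ideal.span {1 - e * a}) ?_ _ hg' rfl)
      (ih (Ideal.span {1 - e * (1 - a)}) ?_ _ hg'' rfl)
    · refine lt_of_le_of_ne ?_ ?_
      · rw [hI, Ideal.span_singleton_le_iff_mem, Ideal.mem_span_singleton']
        refine ⟨1 - e, ?_⟩
        have : (1 - e) * (1 - e * a) = 1 - e - (e - e * e) * a := by ring
        rw [this, he, sub_self, zero_mul, sub_zero]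
      · intro h
        apply hg1
        have h1 : (1 - e * a) ∈ I := by rw [h]; exact Ideal.subset_span rfl
        have h2 : Ideal.Quotient.mk I 1 = Ideal.Quotient.mk I (e * a) := Ideal.Quotient.eq.2 h1
        rw [map_mul, hmk, one_mul, map_one] at h2
        exact h2.symm
    · refine lt_of_le_of_ne ?_ ?_
      · rw [hI, Ideal.span_singleton_le_iff_mem, Ideal.mem_span_singleton']
        refine ⟨1 - e, ?_⟩
        have : (1 - e) * (1 - e * (1 - a)) = 1 - e - (e - e * e) * (1 - a) := by ring
        rw [this, he, sub_self, zero_mul, sub_zero]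
      · intro h
        apply hg0
        have h1 : (1 - e * (1 - a)) ∈ I := by rw [h]; exact Ideal.subset_span rfl
        have h2 : Ideal.Quotient.mk I 1 = Ideal.Quotient.mk I (e * (1 - a)) := Ideal.Quotient.eq.2 h1
        rw [map_mul, hmk, one_mul, map_one, map_sub, map_one] at h2
        linear_combination h2

/-- Idempotents of `B ⊗ A` are combinations of tensors of idempotents. -/
theorem idem_mem_span [IsAlgClosed k] [Algebra.FiniteType k A] (f : B ⊗[k] A) (hf : IsIdempotentElem f) :
    f ∈ Submodule.span k (idemT k B A) := by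
  have := mul_mem_span f hf _ 1 IsIdempotentElem.one rfl
  rwa [show ((1 : B) ⊗ₜ[k] (1 : A)) = 1 from rfl, mul_one] at this

/-- Idempotents are separable. -/
theorem isSeparable_of_idem (e : A) (he : IsIdempotentElem e) : IsSeparable k e := by
  have h1 : aeval e (X * (X - 1) : k[X]) = 0 := by
    rw [map_mul, map_sub, aeval_X, map_one, mul_sub, mul_one, he, sub_self]
  have h2 : minpoly k e ∣ (X * (X - 1) : k[X]) := minpoly.dvd k e h1
  refine Separable.of_dvd ?_ h2
  have : (X * (X - 1) : k[X]) = (X - C 0) * (X - C 1) := by simp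
  rw [this]
  refine Separable.mul (separable_X_sub_C) (separable_X_sub_C) ?_
  exact isCoprime_X_sub_C_of_isUnit_sub (by simp)

/-- Over an algebraically closed field separable elements are combinations of idempotents. -/
theorem mem_span_idem_of_isSeparable [IsAlgClosed k] (a : A) (ha : IsSeparable k a) :
    a ∈ Submodule.span k {e : A | IsIdempotentElem e} := by
  classical
  have hint : IsIntegral k a := by
    by_contra h
    have h1 : minpoly k a = 0 := minpoly.eq_zero h
    have h2 : (minpoly k a).Separable := ha
    rw [h1] at h2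
    exact not_separable_zero h2
  have hm := minpoly.monic hint
  have hsp : (minpoly k a) = ((minpoly k a).roots.map (X - C ·)).prod :=
    (IsAlgClosed.splits (minpoly k a)).eq_prod_roots_of_monic hm
  have hnd : (minpoly k a).roots.Nodup := nodup_roots ha
  have key : ∀ P : k[X], (∀ c ∈ (minpoly k a).roots.toFinset, P.eval c = 0) → aeval a P = 0 := by
    intro P hP
    by_cases h0 : P = 0
    · rw [h0, map_zero]
    have h1 : (minpoly k a) ∣ P := by
      rw [hsp, Multiset.prod_X_sub_C_dvd_iff_le_roots h0, Multiset.le_iff_subset hnd]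
      intro c hc
      rw [mem_roots h0]
      exact hP c (Multiset.mem_toFinset.2 hc)
    obtain ⟨Q, rfl⟩ := h1
    rw [map_mul, minpoly.aeval, zero_mul]
  set s := (minpoly k a).roots.toFinset with hs
  have hinj : Set.InjOn (id : k → k) (s : Set k) := Function.injective_id.injOn
  have h1 : a = ∑ c ∈ s, c • aeval a (Lagrange.basis s id c) := by
    have := key (X - ∑ c ∈ s, C c * Lagrange.basis s id c) (by
      intro d hd
      rw [eval_sub, eval_X, eval_finsetSum, Finset.sum_eq_single d]
      · rw [eval_mul, eval_C]
        have := Lagrange.eval_basis_self hinj hd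
        rw [id_eq] at this
        rw [this, mul_one, sub_self]
      · intro c hc hcd
        have := Lagrange.eval_basis_of_ne (v := (id : k → k)) hcd hd
        rw [id_eq] at this
        rw [eval_mul, this, mul_zero]
      · intro h; exact absurd hd h)
    rw [map_sub, aeval_X, map_sum, sub_eq_zero] at this
    nth_rw 1 [this]
    refine Finset.sum_congr rfl fun c _ => ?_
    rw [map_mul, aeval_C, Algebra.smul_def]
  rw [h1]
  refine Submodule.sum_mem _ fun c hc => Submodule.smul_mem _ _ (Submodule.subset_span ?_)
  change aeval a (Lagrange.basis s id c) * aeval a (Lagrange.basis s id c) = aeval a (Lagrange.basis s id c)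
  rw [← sub_eq_zero, ← map_mul, ← map_sub]
  refine key _ fun d hd => ?_
  rw [eval_sub, eval_mul]
  by_cases hcd : c = d
  · subst hcd
    have := Lagrange.eval_basis_self hinj hd
    rw [id_eq] at this
    rw [this]; ring
  · have := Lagrange.eval_basis_of_ne (v := (id : k → k)) hcd hd
    rw [id_eq] at this
    rw [this]; ring

end Groth.Agent.SGA3.K211.IdemSpan
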