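import Groth.Agent.SGA3.K210.LimQuot

/-!
# Torsors over a cofiltered limit of bases

* `isIso_lift_map_iff`: the action map of a base change in terms of the base change of the action map.
* `HasCov X`: some faithfully flat morphism of finite presentation to the base factors through `X`.
* `hasCov_stage`: descends to a stage.
-/

set_option autoImplicit false
set_option backward.isDefEq.respectTransparency false
set_option backward.defeqAttrib.useBackward true
universe u
open CategoryTheory CategoryTheory.Limits MonoidalCategory CartesianMonoidalCategory MonObj GrpObj AlgebraicGeometry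

namespace Groth.Agent.SGA3.K211.LimTors

open K210.LimHom K210.LimQuot Groth.Agent.Ega43.LimitDescend Groth.Agent.Sga3.H515.GrpModel

section General

variable {S S' : Scheme.{u}} (f : S' ⟶ S) {G X : Over S} (a : G ⊗ X ⟶ X)

theorem μ_map_lift : Functor.LaxMonoidal.μ (Over.pullback f) G X ≫ (Over.pullback f).map (lift a (snd G X)) =
    lift (Functor.LaxMonoidal.μ (Over.pullback f) G X ≫ (Over.pullback f).map a) (snd (Red.bc f G) (Red.bc f X)) ≫
      Functor.LaxMonoidal.μ (Over.pullback f) X X := by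
  rw [← cancel_mono (Functor.OplaxMonoidal.δ (Over.pullback f) X X)]
  simp only [Category.assoc, Functor.Monoidal.μ_δ, Category.comp_id]
  ext1
  · simp only [Category.assoc, Functor.OplaxMonoidal.δ_fst, ← Functor.map_comp, lift_fst]
  · simp only [Category.assoc, Functor.OplaxMonoidal.δ_snd, ← Functor.map_comp, lift_snd]
    simp

theorem isIso_lift_map_iff : IsIso (lift (Functor.LaxMonoidal.μ (Over.pullback f) G X ≫ (Over.pullback f).map a)
    (snd (Red.bc f G) (Red.bc f X))) ↔
    (MorphismProperty.isomorphisms Scheme.{u}) ((Over.pullback f).map (lift a (snd G X))).left := by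
  have h := μ_map_lift f a
  constructor
  · intro h1
    have h2 : (Over.pullback f).map (lift a (snd G X)) = inv (Functor.LaxMonoidal.μ (Over.pullback f) G X) ≫
        lift (Functor.LaxMonoidal.μ (Over.pullback f) G X ≫ (Over.pullback f).map a) (snd (Red.bc f G) (Red.bc f X)) ≫
      Functor.LaxMonoidal.μ (Over.pullback f) X X := by
      rw [IsIso.eq_inv_comp, h]
    have h3 : IsIso ((Over.pullback f).map (lift a (snd G X))) := by
      rw [h2]
      infer_instance
    exact inferInstanceAs (IsIso ((Over.forget _).map ((Over.pullback f).map (lift a (snd G X)))))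
  · intro h1
    have h1' : IsIso ((Over.forget _).map ((Over.pullback f).map (lift a (snd G X)))) := h1
    have h2 : IsIso ((Over.pullback f).map (lift a (snd G X))) := isIso_of_reflects_iso _ (Over.forget _)
    have h3 : lift (Functor.LaxMonoidal.μ (Over.pullback f) G X ≫ (Over.pullback f).map a)
        (snd (Red.bc f G) (Red.bc f X)) = (Functor.LaxMonoidal.μ (Over.pullback f) G X ≫
        (Over.pullback f).map (lift a (snd G X))) ≫ inv (Functor.LaxMonoidal.μ (Over.pullback f) X X) := by
      rw [IsIso.eq_comp_inv, h]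
    rw [h3]
    infer_instance

/-- Some faithfully flat morphism of finite presentation to the base factors through `X`. -/
def HasCov (X : Over S) : Prop :=
  ∃ (Z : Scheme.{u}) (v : Z ⟶ S) (w : Z ⟶ X.left), w ≫ X.hom = v ∧
    Flat v ∧ Surjective v ∧ LocallyOfFinitePresentation v ∧ QuasiCompact v ∧ QuasiSeparated v

theorem hasCov_iff (X : Over S) : HasCov X ↔ ∃ (Z : Over S) (_ : Z ⟶ X),
    Flat Z.hom ∧ Surjective Z.hom ∧ LocallyOfFinitePresentation Z.hom ∧ QuasiCompact Z.hom ∧ QuasiSeparated Z.hom := by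
  constructor
  · rintro ⟨Z, v, w, h, h'⟩
    exact ⟨Over.mk v, Over.homMk w h, h'⟩
  · rintro ⟨Z, w, h⟩
    exact ⟨Z.left, Z.hom, w.left, Over.w w, h⟩

theorem HasCov.of_iso {X Y : Over S} (h : HasCov X) (e : X ⟶ Y) : HasCov Y := by
  rw [hasCov_iff] at h ⊢
  obtain ⟨Z, w, h⟩ := h
  exact ⟨Z, w ≫ e, h⟩

theorem HasCov.map {X : Over S} (h : HasCov X) : HasCov (Red.bc f X) := by
  rw [hasCov_iff] at h ⊢
  obtain ⟨Z, w, h1, h2, h3, h4, h5⟩ := h
  exact ⟨(Over.pullback f).obj Z, (Over.pullback f).map w, inferInstanceAs (Flat (pullback.snd Z.hom f)),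
    inferInstanceAs (Surjective (pullback.snd Z.hom f)),
    inferInstanceAs (LocallyOfFinitePresentation (pullback.snd Z.hom f)),
    inferInstanceAs (QuasiCompact (pullback.snd Z.hom f)), inferInstanceAs (QuasiSeparated (pullback.snd Z.hom f))⟩

end General

section Lim

variable {I : Type u} [SmallCategory I] [IsCofiltered I]
    {D : I ⥤ Scheme.{u}} {c : Cone D} (hc : IsLimit c)
    [∀ (i i' : I) (f : i ⟶ i'), IsAffineHom (D.map f)]
    [∀ i, CompactSpace (D.obj i)] [∀ i, QuasiSeparatedSpace (D.obj i)]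

include hc

theorem exists_hasCov {j : I} (X : Over (D.obj j)) [LocallyOfFinitePresentation X.hom]
    (h : HasCov (Red.bc (c.π.app j) X)) : ∃ (i : I) (f : i ⟶ j), HasCov (Red.bc (D.map f) X) := by
  rw [hasCov_iff] at h
  obtain ⟨Z, w, h1, h2, h3, h4, h5⟩ := h
  obtain ⟨i₁, ⟨M⟩⟩ := Groth.Agent.CalgA.LimFP.Mdl.exists_model hc Z.hom
  obtain ⟨k, a, b, -⟩ := IsCofilteredOrEmpty.cone_objs j i₁
  let N := M.bc b
  let Y : Over (D.obj k) := Over.mk N.f
  have c1 : LocallyOfFinitePresentation Y.hom := N.lfp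
  have c2 : QuasiCompact Y.hom := N.qc
  have c3 : QuasiSeparated Y.hom := N.qs
  let eY : Red.bc (c.π.app k) Y ≅ Z := Groth.Agent.Sga3.H515.GrpStage.mdlIso N
  have c4 : LocallyOfFinitePresentation (Red.bc (D.map a) X).hom := lfp_bc _ _
  obtain ⟨i, f, v, -⟩ := exists_map_eq_of hc Y (Red.bc (D.map a) X)
    (eY.hom ≫ w ≫ (ActBC.bcCompIso (c.π.app k) (D.map a) X (c.w a)).inv)
  let T : Over (D.obj k) := Over.mk (𝟙 _)
  let t : Y ⟶ T := Over.homMk Y.hom (by simp [T])
  have d1 : LocallyOfFinitePresentation T.hom := inferInstanceAs (LocallyOfFinitePresentation (𝟙 (D.obj k)))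
  have d2 : QuasiCompact T.hom := inferInstanceAs (QuasiCompact (𝟙 (D.obj k)))
  have d3 : QuasiSeparated T.hom := inferInstanceAs (QuasiSeparated (𝟙 (D.obj k)))
  have key : ∀ {P : MorphismProperty Scheme.{u}} [P.IsStableUnderBaseChange] {S' : Scheme.{u}}
      (g : S' ⟶ D.obj k), P ((Over.pullback g).map t).left ↔ P (Red.bc g Y).hom := by
    intro P _ S' g
    have := MorphismProperty.IsStableUnderBaseChange.respectsIso (P := P)
    have hiso : IsIso (Red.bc g T).hom := inferInstanceAs (IsIso (pullback.snd (𝟙 (D.obj k)) g))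
    have hw : ((Over.pullback g).map t).left ≫ (Red.bc g T).hom = (Red.bc g Y).hom := Over.w _
    rw [← hw, P.cancel_right_of_respectsIso]
  have hZ : (Red.bc (c.π.app k) Y).hom = eY.hom.left ≫ Z.hom := (Over.w _).symm
  have g1 : Flat (Red.bc (c.π.app k) Y).hom := by
    rw [hZ]
    infer_instance
  have g2 : Surjective (Red.bc (c.π.app k) Y).hom := by
    rw [hZ]
    infer_instance
  have s1 := exists_prop_map hc Groth.Agent.Sga3.H515.LimSmooth.descendsLim_flat t ((key (P := @Flat) _).2 g1)
  have s2 := exists_prop_map hc (Groth.Agent.Ega43.LimitDescendCompare.descendsLim_of_descends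
        Groth.Agent.Ega43.LimSurj.descends_surjective) t ((key (P := @Surjective) _).2 g2)
  have s3 := stage_and
      (Q₁ := fun i f => Flat ((Over.pullback (D.map f)).map t).left)
      (Q₂ := fun i f => Surjective ((Over.pullback (D.map f)).map t).left)
      (fun g f h => prop_map_comp (D.map g) (D.map f) (D.map_comp g f).symm (P := @Flat) t h)
      (fun g f h => prop_map_comp (D.map g) (D.map f) (D.map_comp g f).symm (P := @Surjective) t h) s1 s2
  have s4 := stage_and
      (Q₁ := fun i f => Flat ((Over.pullback (D.map f)).map t).left ∧ Surjective ((Over.pullback (D.map f)).map t).left)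
      (Q₂ := fun i f => Nonempty (Red.bc (D.map f) Y ⟶ Red.bc (D.map f) (Red.bc (D.map a) X)))
      (fun g f h => ⟨prop_map_comp (D.map g) (D.map f) (D.map_comp g f).symm (P := @Flat) t h.1,
      prop_map_comp (D.map g) (D.map f) (D.map_comp g f).symm (P := @Surjective) t h.2⟩)
      (fun g f h => ⟨mv (D.map g) (D.map f) (D.map_comp g f).symm h.some⟩) s3 ⟨i, f, ⟨v⟩⟩
  obtain ⟨i', f', ⟨e1, e2⟩, ⟨v'⟩⟩ := s4
  refine ⟨i', f' ≫ a, ?_⟩
  rw [hasCov_iff]
  refine ⟨Red.bc (D.map f') Y, v' ≫ (ActBC.bcCompIso (D.map f') (D.map a) X (D.map_comp f' a).symm).hom,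
    (key (P := @Flat) _).1 e1, (key (P := @Surjective) _).1 e2, lfp_bc _ _, qc_bc _ _, qs_bc _ _⟩

theorem main {j : I} {G X : Over (D.obj j)} (a : G ⊗ X ⟶ X)
    [LocallyOfFinitePresentation G.hom] [QuasiCompact G.hom] [QuasiSeparated G.hom]
    [LocallyOfFinitePresentation X.hom] [QuasiCompact X.hom] [QuasiSeparated X.hom] :
    (IsIso (lift (Functor.LaxMonoidal.μ (Over.pullback (c.π.app j)) G X ≫ (Over.pullback (c.π.app j)).map a)
      (snd (Red.bc (c.π.app j) G) (Red.bc (c.π.app j) X))) ∧ HasCov (Red.bc (c.π.app j) X)) ↔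
    ∃ (i : I) (f : i ⟶ j), (IsIso (lift (Functor.LaxMonoidal.μ (Over.pullback (D.map f)) G X ≫
      (Over.pullback (D.map f)).map a) (snd (Red.bc (D.map f) G) (Red.bc (D.map f) X))) ∧
      HasCov (Red.bc (D.map f) X)) := by
  simp only [isIso_lift_map_iff]
  constructor
  · rintro ⟨h1, h2⟩
    have i1 : LocallyOfFinitePresentation (G ⊗ X).hom :=
      inferInstanceAs (LocallyOfFinitePresentation (pullback.fst G.hom X.hom ≫ G.hom))
    have i2 : QuasiCompact (G ⊗ X).hom :=
      inferInstanceAs (QuasiCompact (pullback.fst G.hom X.hom ≫ G.hom))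
    have i3 : QuasiSeparated (G ⊗ X).hom :=
      inferInstanceAs (QuasiSeparated (pullback.fst G.hom X.hom ≫ G.hom))
    have j1 : LocallyOfFinitePresentation (X ⊗ X).hom :=
      inferInstanceAs (LocallyOfFinitePresentation (pullback.fst X.hom X.hom ≫ X.hom))
    have j2 : QuasiCompact (X ⊗ X).hom :=
      inferInstanceAs (QuasiCompact (pullback.fst X.hom X.hom ≫ X.hom))
    have j3 : QuasiSeparated (X ⊗ X).hom :=
      inferInstanceAs (QuasiSeparated (pullback.fst X.hom X.hom ≫ X.hom))
    exact stage_and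
      (Q₁ := fun i f => (MorphismProperty.isomorphisms Scheme.{u}) ((Over.pullback (D.map f)).map (lift a (snd G X))).left)
      (Q₂ := fun i f => HasCov (Red.bc (D.map f) X))
      (fun g f h => prop_map_comp (D.map g) (D.map f) (D.map_comp g f).symm (P := MorphismProperty.isomorphisms Scheme.{u}) _ h)
      (fun g f h => (h.map (D.map g)).of_iso (ActBC.bcCompIso _ _ X (D.map_comp g f).symm).hom)
      (exists_prop_map hc (P := MorphismProperty.isomorphisms Scheme.{u})
        Groth.Agent.Ega43.LimitDescendIso.descendsLim_isomorphisms _ h1)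
      (exists_hasCov hc X h2)
  · rintro ⟨i, f, h1, h2⟩
    exact ⟨prop_map_comp (c.π.app i) (D.map f) (c.w f) (P := MorphismProperty.isomorphisms Scheme.{u}) _ h1,
      (h2.map (c.π.app i)).of_iso (ActBC.bcCompIso _ _ X (c.w f)).hom⟩

end Lim

end Groth.Agent.SGA3.K211.LimTors
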