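import Groth.Agent.SGA3.K211.GCover
import Mathlib.RingTheory.Flat.Basic

/-!
# Finitely generated stable submodules of a `G`-module over a Noetherian base
-/

set_option autoImplicit false
universe u
open CategoryTheory MonObj GrpObj AlgebraicGeometry Limits
open scoped TensorProduct

namespace Groth.Agent.SGA3.K211.GStable

open GCover

variable {R : Type u} [CommRing R] {G : Over (Spec (CommRingCat.of R))} [GrpObj G]
  {E : Type u} [AddCommGroup E] [Module R E]

/-- Points evaluated at `1 ⊗ x`, as a linear map. -/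
noncomputable def act (m : VecGrp.GMod G E) {B : Type u} [CommRing B] [Algebra R B] (g : VecGrp.pt R B ⟶ G) :
    E →ₗ[R] B ⊗[R] E :=
  ((m.ρ B g).toLinearMap.restrictScalars R) ∘ₗ TensorProduct.mk R B E 1

theorem act_apply (m : VecGrp.GMod G E) {B : Type u} [CommRing B] [Algebra R B] (g : VecGrp.pt R B ⟶ G) (x : E) :
    act m g x = m.ρ B g (1 ⊗ₜ x) := rfl

theorem mem_of_tmul_one (N : Submodule R E) {x : E}
    (hx : ((1 : R) ⊗ₜ[R] x : R ⊗[R] E) ∈ LinearMap.range (N.subtype.baseChange R)) : x ∈ N := by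
  rw [mem_range_iff, LinearMap.baseChange_tmul] at hx
  have := congrArg (TensorProduct.lid R (E ⧸ N)) hx
  rw [TensorProduct.lid_tmul, one_smul, map_zero, Submodule.mkQ_apply, Submodule.Quotient.mk_eq_zero] at this
  exact this

theorem le_of_act (m : VecGrp.GMod G E) {C : Type u} [CommRing C] [Algebra R C]
    {u : VecGrp.pt R C ⟶ G} (hu : Lifts u) (N : Submodule R E) {x : E}
    (hx : act m u x ∈ LinearMap.range (N.subtype.baseChange C)) : x ∈ N := by
  apply mem_of_tmul_one
  have := mem_range_of_cover m hu N hx (B := R) 1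
  rwa [map_one] at this

theorem range_mono {B : Type u} [CommRing B] [Algebra R B] {N N' : Submodule R E} (h : N ≤ N') :
    LinearMap.range (N.subtype.baseChange B) ≤ LinearMap.range (N'.subtype.baseChange B) := by
  rintro _ ⟨y, rfl⟩
  refine ⟨(Submodule.inclusion h).baseChange B y, ?_⟩
  rw [← LinearMap.comp_apply, ← LinearMap.baseChange_comp]
  rfl

theorem exists_fg_mem_range {B : Type u} [CommRing B] [Algebra R B] (y : B ⊗[R] E) :
    ∃ N : Submodule R E, N.FG ∧ y ∈ LinearMap.range (N.subtype.baseChange B) := by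
  induction y with
  | zero => exact ⟨⊥, Submodule.fg_bot, zero_mem _⟩
  | add x y hx hy =>
    obtain ⟨N, hN, h⟩ := hx
    obtain ⟨N', hN', h'⟩ := hy
    exact ⟨N ⊔ N', hN.sup hN', add_mem (range_mono le_sup_left h) (range_mono le_sup_right h')⟩
  | tmul b x =>
    refine ⟨R ∙ x, Submodule.fg_span_singleton x, ⟨b ⊗ₜ ⟨x, Submodule.mem_span_singleton_self x⟩, rfl⟩⟩

theorem exists_fg_forall_mem_range {B : Type u} [CommRing B] [Algebra R B] (M : Submodule R E) (hM : M.FG)
    (f : E →ₗ[R] B ⊗[R] E) :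
    ∃ N : Submodule R E, N.FG ∧ ∀ x ∈ M, f x ∈ LinearMap.range (N.subtype.baseChange B) := by
  classical
  obtain ⟨s, hs⟩ := hM
  choose N hN hN' using fun x : E => exists_fg_mem_range (f x)
  refine ⟨s.sup N, Submodule.fg_finset_sup s N fun x _ => hN x, fun x hx => ?_⟩
  rw [← hs] at hx
  induction hx using Submodule.span_induction with
  | mem x h => exact range_mono (Finset.le_sup (f := N) h) (hN' x)
  | zero => rw [map_zero]; exact zero_mem _
  | add x y _ _ hx hy => rw [map_add]; exact add_mem hx hy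
  | smul a x _ hx =>
    rw [map_smul]
    obtain ⟨z, hz⟩ := hx
    exact ⟨a • z, by rw [← hz]; exact LinearMap.map_smul_of_tower _ _ _⟩

/-- The iso `(C ⊗ C) ⊗ F ≅ C ⊗ (C ⊗ F)`. -/
theorem act_mul_eq (m : VecGrp.GMod G E) {C : Type u} [CommRing C] [Algebra R C] (u : VecGrp.pt R C ⟶ G) (x : E) :
    TensorProduct.assoc R C C E (act m ((VecGrp.ptMap (Algebra.TensorProduct.includeRight : C →ₐ[R] C ⊗[R] C) ≫ u) *
      (VecGrp.ptMap (Algebra.TensorProduct.includeLeft : C →ₐ[R] C ⊗[R] C) ≫ u)) x) =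
      (act m u).lTensor C (act m u x) := by
  rw [act_apply, map_mul]
  change TensorProduct.assoc R C C E (m.ρ (C ⊗[R] C) _ (m.ρ (C ⊗[R] C) _ (1 ⊗ₜ x))) = _
  have h1 : ∀ (φ : C →ₐ[R] C ⊗[R] C) (x : E), m.ρ (C ⊗[R] C) (VecGrp.ptMap φ ≫ u) (1 ⊗ₜ x) =
      VecGrp.Wmap φ (act m u x) := by
    intro φ x
    rw [act_apply, m.naturality, VecGrp.Wmap_tmul, map_one]
  rw [h1]
  generalize act m u x = y
  induction y with
  | zero => simp
  | add x y hx hy => simp only [map_add, hx, hy]
  | tmul c e =>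
    rw [VecGrp.Wmap_tmul]
    have h2 : (((Algebra.TensorProduct.includeLeft : C →ₐ[R] C ⊗[R] C) c) ⊗ₜ[R] e : (C ⊗[R] C) ⊗[R] E) =
        ((Algebra.TensorProduct.includeLeft : C →ₐ[R] C ⊗[R] C) c) • ((1 : C ⊗[R] C) ⊗ₜ[R] e) := by
      rw [TensorProduct.smul_tmul', smul_eq_mul, _root_.mul_one]
    rw [h2, map_smul, h1, LinearMap.lTensor_tmul]
    generalize act m u e = w
    induction w with
    | zero => simp
    | add x y hx hy => simp only [map_add, smul_add, TensorProduct.tmul_add, hx, hy]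
    | tmul c' e' =>
      rw [VecGrp.Wmap_tmul, TensorProduct.smul_tmul', Algebra.TensorProduct.includeLeft_apply,
        Algebra.TensorProduct.includeRight_apply, smul_eq_mul, Algebra.TensorProduct.tmul_mul_tmul,
        _root_.one_mul, _root_.mul_one, TensorProduct.assoc_tmul]

theorem exists_stable [IsNoetherianRing R] [Flat G.hom] [QuasiCompact G.hom] (m : VecGrp.GMod G E)
    (M : Submodule R E) (hM : M.FG) :
    ∃ N : Submodule R E, M ≤ N ∧ N.FG ∧
      ∀ (B : Type u) [CommRing B] [Algebra R B] (g : VecGrp.pt R B ⟶ G) (x : E), x ∈ N →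
        m.ρ B g ((1 : B) ⊗ₜ[R] x) ∈ LinearMap.range (N.subtype.baseChange B) := by
  obtain ⟨C, _, _, u, hflat, -, -, hu⟩ := exists_cover G
  obtain ⟨E', hE', hM'⟩ := exists_fg_forall_mem_range M hM (act m u)
  let ψ : E →ₗ[R] C ⊗[R] (E ⧸ E') := (E'.mkQ.lTensor C) ∘ₗ act m u
  have hψ : ∀ x, x ∈ LinearMap.ker ψ ↔ act m u x ∈ LinearMap.range (E'.subtype.baseChange C) := by
    intro x
    rw [mem_range_iff, LinearMap.mem_ker]
    rfl
  have hle : LinearMap.ker ψ ≤ E' := fun x hx => le_of_act m hu E' ((hψ x).1 hx)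
  have : IsNoetherian R E' := isNoetherian_of_fg_of_noetherian E' hE'
  refine ⟨LinearMap.ker ψ, fun x hx => (hψ x).2 (hM' x hx), Submodule.FG.of_le_of_isNoetherian hle, ?_⟩
  intro B _ _ g x hx
  apply mem_range_of_cover m hu
  have hex : Function.Exact ((LinearMap.ker ψ).subtype.lTensor C) (ψ.lTensor C) :=
    Module.Flat.lTensor_exact C (LinearMap.exact_subtype_ker_map ψ)
  refine (hex _).1 ?_
  rw [← act_apply]
  have h1 := act_mul_eq m u x
  have h2 : act m ((VecGrp.ptMap (Algebra.TensorProduct.includeRight : C →ₐ[R] C ⊗[R] C) ≫ u) *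
      (VecGrp.ptMap (Algebra.TensorProduct.includeLeft : C →ₐ[R] C ⊗[R] C) ≫ u)) x ∈
      LinearMap.range (E'.subtype.baseChange (C ⊗[R] C)) :=
    mem_range_of_cover m hu E' ((hψ x).1 hx) _
  rw [mem_range_iff] at h2
  have h3 : ∀ w : (C ⊗[R] C) ⊗[R] E, TensorProduct.assoc R C C (E ⧸ E') (E'.mkQ.baseChange (C ⊗[R] C) w) =
      (E'.mkQ.lTensor C).lTensor C (TensorProduct.assoc R C C E w) := by
    intro w
    induction w with
    | zero => simp
    | add x y hx hy => simp only [map_add, hx, hy]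
    | tmul w e =>
      induction w with
      | zero => simp
      | add x y hx hy => simp only [map_add, TensorProduct.add_tmul, hx, hy]
      | tmul c c' => rfl
  have h4 := h3 (act m ((VecGrp.ptMap (Algebra.TensorProduct.includeRight : C →ₐ[R] C ⊗[R] C) ≫ u) *
      (VecGrp.ptMap (Algebra.TensorProduct.includeLeft : C →ₐ[R] C ⊗[R] C) ≫ u)) x)
  rw [h2, map_zero, h1] at h4
  rw [LinearMap.lTensor_comp, LinearMap.comp_apply]
  exact h4.symm

end Groth.Agent.SGA3.K211.GStable
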