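import Mathlib.AlgebraicGeometry.Pullbacks
import Mathlib.AlgebraicGeometry.Morphisms.UnderlyingMap
import Mathlib.AlgebraicGeometry.Morphisms.ClosedImmersion
import Mathlib.CategoryTheory.Comma.Over.Pullback
import Mathlib.RingTheory.Ideal.Quotient.Defs
import Mathlib.RingTheory.Ideal.Operations

/-!
# Endomorphisms which are the identity modulo a square-zero ideal of the base

* `comp_eq_of_pullback_map_eq`: two morphisms over `S` with the same base change to `S₀` agree after
  composition with any morphism from an `S₀`-scheme.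
* `bijective_of_sub_mem`: an `R`-algebra endomorphism of `A` which is the identity modulo `J A`, `J * J = 0`,
  is bijective.
* `isIso_left_of_pullback_map_eq_id`: the scheme version.
* `surjective_specMap_mk`: `Spec (R/I) → Spec R` is surjective for `I` nilpotent.
-/

set_option autoImplicit false
universe u
open CategoryTheory CategoryTheory.Limits AlgebraicGeometry

namespace Groth.Agent.SGA3.K211.SqZero

theorem mem_iff {R A : Type*} [CommRing R] [CommRing A] [Algebra R A] (J : Ideal R) (x : A) :
    x ∈ J • (⊤ : Submodule R A) ↔ x ∈ Ideal.map (algebraMap R A) J := by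
  rw [Ideal.smul_top_eq_map]; rfl

/-- An `R`-algebra endomorphism which is the identity modulo the extension of a square-zero ideal
of the base is bijective. -/
theorem bijective_of_sub_mem {R A : Type*} [CommRing R] [CommRing A] [Algebra R A] (J : Ideal R)
    (hJ : J * J = ⊥) (f : A →ₐ[R] A)
    (hf : ∀ a, f a - a ∈ Ideal.map (algebraMap R A) J) : Function.Bijective f := by
  have h0 : ∀ x ∈ J • (⊤ : Submodule R A), f x - x = 0 := by
    intro x hx
    induction hx using Submodule.smul_induction_on' with
    | smul r hr m hm =>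
      have h1 : f m - m ∈ J • (⊤ : Submodule R A) := (mem_iff J _).2 (hf m)
      have h2 : r • (f m - m) ∈ (J * J) • (⊤ : Submodule R A) := by
        rw [mul_smul]; exact Submodule.smul_mem_smul hr h1
      rw [hJ] at h2
      rw [map_smul, ← smul_sub]
      simpa using h2
    | add y hy z hz h1 h2 =>
      have e : f (y + z) - (y + z) = (f y - y) + (f z - z) := by
        rw [map_add]; ring
      rw [e, h1, h2, add_zero]
  constructor
  · rw [injective_iff_map_eq_zero]
    intro a ha
    have h1 := hf a
    rw [ha, zero_sub, neg_mem_iff] at h1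
    have h2 := h0 a ((mem_iff J _).2 h1)
    rw [ha, zero_sub, neg_eq_zero] at h2
    exact h2
  · intro a
    refine ⟨a - (f a - a), ?_⟩
    have h1 := h0 _ ((mem_iff J _).2 (hf a))
    rw [map_sub]
    linear_combination -h1

/-- Two morphisms over `S` with the same base change to `S₀` agree after
composition with any morphism from an `S₀`-scheme. -/
theorem comp_eq_of_pullback_map_eq {S S₀ : Scheme.{u}} (i : S₀ ⟶ S) {X Y : Over S} (u v : X ⟶ Y)
    (h : (Over.pullback i).map u = (Over.pullback i).map v) {T : Scheme.{u}} (t : T ⟶ X.left)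
    (t₀ : T ⟶ S₀) (ht : t ≫ X.hom = t₀ ≫ i) : t ≫ u.left = t ≫ v.left := by
  have h1 : t = pullback.lift t t₀ ht ≫ pullback.fst X.hom i := (pullback.lift_fst _ _ _).symm
  have hu : pullback.fst X.hom i ≫ u.left = ((Over.pullback i).map u).left ≫ pullback.fst Y.hom i := by
    exact (pullback.lift_fst _ _ _).symm
  have hv : pullback.fst X.hom i ≫ v.left = ((Over.pullback i).map v).left ≫ pullback.fst Y.hom i := by
    exact (pullback.lift_fst _ _ _).symm
  rw [h1, Category.assoc, Category.assoc, hu, hv, h]

theorem surjective_specMap_of_nilpotent {R R' : Type u} [CommRing R] [CommRing R'] (f : R →+* R')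
    (hf : Function.Surjective f) (hn : IsNilpotent (RingHom.ker f)) :
    Function.Surjective (Spec.map (CommRingCat.ofHom f)) := by
  intro x
  have h1 : Set.range (PrimeSpectrum.comap f) = PrimeSpectrum.zeroLocus (RingHom.ker f) :=
    range_comap_of_surjective _ f hf
  have h2 : x ∈ PrimeSpectrum.zeroLocus ((RingHom.ker f : Ideal R) : Set R) := by
    intro a ha
    obtain ⟨n, hn⟩ := hn
    have : a ^ n ∈ (RingHom.ker f) ^ n := Ideal.pow_mem_pow ha n
    rw [hn] at this
    have h3 : a ^ n ∈ x.asIdeal := by
      rw [show a ^ n = 0 by simpa using this]; exact x.asIdeal.zero_mem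
    exact x.isPrime.mem_of_pow_mem n h3
  rw [← h1] at h2
  obtain ⟨y, hy⟩ := h2
  exact ⟨y, hy⟩

/-- `Spec (R/I) → Spec R` is surjective for `I` nilpotent. -/
theorem surjective_specMap_mk (R : Type u) [CommRing R] (I : Ideal R) (hI : IsNilpotent I) :
    Surjective (Spec.map (CommRingCat.ofHom (Ideal.Quotient.mk I))) :=
  ⟨surjective_specMap_of_nilpotent _ Ideal.Quotient.mk_surjective (by rwa [Ideal.mk_ker])⟩

/-- Affine case. -/
theorem isIso_affine (R A : Type u) [CommRing R] [CommRing A] (ρ : R →+* A) (J : Ideal R)
    (hJ : J * J = ⊥) (v : Spec (CommRingCat.of A) ⟶ Spec (CommRingCat.of A))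
    (hv : v ≫ Spec.map (CommRingCat.ofHom ρ) = Spec.map (CommRingCat.ofHom ρ))
    (h : Spec.map (CommRingCat.ofHom (Ideal.Quotient.mk (Ideal.map ρ J))) ≫ v =
      Spec.map (CommRingCat.ofHom (Ideal.Quotient.mk (Ideal.map ρ J)))) : IsIso v := by
  obtain ⟨φ, rfl⟩ := Spec.map_surjective v
  let _ : Algebra R A := ρ.toAlgebra
  rw [← Spec.map_comp] at hv h
  have hv' := Spec.map_injective hv
  have h' := Spec.map_injective h
  let f : A →ₐ[R] A := { φ.hom with commutes' := fun r => congr($(hv').hom r) }
  have hf : Function.Bijective f := bijective_of_sub_mem J hJ f fun a => by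
    rw [← Ideal.Quotient.eq]
    exact congr($(h').hom a)
  have : IsIso φ := by
    rw [ConcreteCategory.isIso_iff_bijective]
    exact hf
  infer_instance

/-- An endomorphism of a scheme over `Spec R` which induces the identity modulo a square-zero ideal
is an isomorphism. -/
theorem isIso_left_of_pullback_map_eq_id (R : Type u) [CommRing R] (J : Ideal R) (hJ : J * J = ⊥)
    (X : Over (Spec (CommRingCat.of R))) (u : X ⟶ X)
    (h : (Over.pullback (Spec.map (CommRingCat.ofHom (Ideal.Quotient.mk J)))).map u = 𝟙 _) :
    IsIso u.left := by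
  have h' : (Over.pullback (Spec.map (CommRingCat.ofHom (Ideal.Quotient.mk J)))).map u =
      (Over.pullback (Spec.map (CommRingCat.ofHom (Ideal.Quotient.mk J)))).map (𝟙 X) := by
    rw [h, CategoryTheory.Functor.map_id]
  have hs := surjective_specMap_mk R J ⟨2, by rw [pow_two, hJ]; rfl⟩
  have hpt : ∀ x : X.left, u.left x = x := by
    intro x
    obtain ⟨y, rfl⟩ := (pullback.fst X.hom (Spec.map (CommRingCat.ofHom (Ideal.Quotient.mk J)))).surjective x
    have h1 := comp_eq_of_pullback_map_eq _ u (𝟙 X) h'
      (pullback.fst X.hom (Spec.map (CommRingCat.ofHom (Ideal.Quotient.mk J))))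
      (pullback.snd X.hom (Spec.map (CommRingCat.ofHom (Ideal.Quotient.mk J)))) pullback.condition
    rw [Over.id_left, Category.comp_id] at h1
    rw [← Scheme.Hom.comp_apply, h1]
  have key : ∀ U : X.left.affineOpens, IsIso (u.left ∣_ U.1) := by
    rintro ⟨U, hU⟩
    have e : U ≤ u.left ⁻¹ᵁ U := fun x hx => by
      change u.left x ∈ U
      rwa [hpt x]
    have e' : U = u.left ⁻¹ᵁ U := le_antisymm e fun x hx => by
      change u.left x ∈ U at hx
      rwa [hpt x] at hx
    suffices hv : IsIso (u.left.resLE U U e) by
      rw [← Scheme.Hom.resLE_eq_morphismRestrict]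
      exact (Scheme.Hom.resLE_congr u.left e rfl e' (MorphismProperty.isomorphisms Scheme)).1 hv
    let g := hU.isoSpec.inv ≫ u.left.resLE U U e ≫ hU.isoSpec.hom
    obtain ⟨ρ, hρ⟩ := Spec.map_surjective (hU.isoSpec.inv ≫ U.ι ≫ X.hom)
    have hg : IsIso g := by
      refine isIso_affine R Γ(X.left, U) ρ.hom J hJ g ?_ ?_
      · change g ≫ Spec.map ρ = Spec.map ρ
        rw [hρ]
        simp only [g, Category.assoc, Iso.hom_inv_id_assoc]
        rw [Scheme.Hom.resLE_comp_ι_assoc, Over.w]
      · rw [← cancel_mono hU.isoSpec.inv, ← cancel_mono U.ι]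
        simp only [g, Category.assoc, Iso.hom_inv_id_assoc, Scheme.Hom.resLE_comp_ι]
        have h1 := comp_eq_of_pullback_map_eq _ u (𝟙 X) h'
          (Spec.map (CommRingCat.ofHom (Ideal.Quotient.mk (Ideal.map ρ.hom J))) ≫
            hU.isoSpec.inv ≫ U.ι) (Spec.map (CommRingCat.ofHom (Ideal.quotientMap
              (Ideal.map ρ.hom J) ρ.hom Ideal.le_comap_map))) (by
            simp only [Category.assoc]
            rw [← hρ, ← Spec.map_comp, ← Spec.map_comp]
            rfl)
        rw [Over.id_left, Category.comp_id] at h1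
        simpa only [Category.assoc] using h1
    have : u.left.resLE U U e = hU.isoSpec.hom ≫ g ≫ hU.isoSpec.inv := by simp [g]
    rw [this]
    infer_instance
  exact (IsZariskiLocalAtTarget.iff_of_iSup_eq_top (P := MorphismProperty.isomorphisms Scheme)
    (fun U : X.left.affineOpens => U.1) (iSup_affineOpens_eq_top X.left)).2 key

end Groth.Agent.SGA3.K211.SqZero
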