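import Groth.Prelude.Def_Red
import Groth.Agent.Sga67.TorsionLift
import Groth.Agent.SGA3.K211.StalkExt
import Groth.Agent.SGA3.K211.SqZero

/-!
# Infinitesimal points of a group scheme commute

* `comm_local`: `T`-points of a group scheme, `T` local, which are trivial modulo a square-zero ideal commute.
* `comm_of_pullback_eq_one`: the global version over `Spec R` with an ideal `J` of square zero of `R`.
-/

set_option autoImplicit false
universe u
open CategoryTheory CategoryTheory.Limits AlgebraicGeometry MonObj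

namespace Groth.Agent.SGA3.K211.InfComm

open Groth.Agent.Sga67.TorsionLift

variable {R : Type u} [CommRing R] {T : Type u} [CommRing T] [Algebra R T]
  (B : Over (Spec (CommRingCat.of R))) [GrpObj B]

theorem exists_factor_of_trivial [IsLocalRing T] (I : Ideal T) (hIm : I ≤ IsLocalRing.maximalIdeal T)
    {O : Type u} [CommRing O] [Algebra R O] (j : sp R O ⟶ B) [IsOpenImmersion j.left]
    (e : O →ₐ[R] T) (he : spMap e ≫ j = 1) (g : sp R T ⟶ B)
    (hg : spMap (Ideal.Quotient.mkₐ R I) ≫ g = 1) :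
    ∃ f : O →ₐ[R] T, g = spMap f ≫ j ∧ ∀ o, f o - e o ∈ I := by
  have hI1 : I ≠ ⊤ := fun h => by
    rw [h] at hIm
    exact (IsLocalRing.maximalIdeal.isMaximal T).ne_top (top_le_iff.1 hIm)
  have : Nontrivial (T ⧸ I) := Ideal.Quotient.nontrivial_iff.2 hI1
  have : IsLocalRing (T ⧸ I) := IsLocalRing.of_surjective' (Ideal.Quotient.mk I) Ideal.Quotient.mk_surjective
  have : IsLocalHom (Ideal.Quotient.mkₐ R I : T →+* T ⧸ I) :=
    IsLocalHom.of_surjective (Ideal.Quotient.mk I) Ideal.Quotient.mk_surjective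
  have hcl : Spec.map (CommRingCat.ofHom (Ideal.Quotient.mkₐ R I : T →+* T ⧸ I))
      (IsLocalRing.closedPoint (T ⧸ I)) = IsLocalRing.closedPoint T := IsLocalRing.comap_closedPoint _
  have h1 : (spMap (Ideal.Quotient.mkₐ R I) ≫ g).left (IsLocalRing.closedPoint (T ⧸ I)) =
      (spMap (Ideal.Quotient.mkₐ R I) ≫ spMap e ≫ j).left (IsLocalRing.closedPoint (T ⧸ I)) := by
    rw [hg, he, MonObj.comp_one]
  have hzx : g.left (IsLocalRing.closedPoint T) ∈ Set.range j.left := by
    rw [← hcl]
    have h2 : (spMap (Ideal.Quotient.mkₐ R I) ≫ spMap e ≫ j).left (IsLocalRing.closedPoint (T ⧸ I)) ∈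
        Set.range j.left := ⟨_, rfl⟩
    rw [← h1] at h2
    exact h2
  obtain ⟨f, hf⟩ := exists_factor B j g hzx
  refine ⟨f, hf, fun o => ?_⟩
  have : (Ideal.Quotient.mkₐ R I).comp f = (Ideal.Quotient.mkₐ R I).comp e := by
    apply factor_injective B j
    rw [← spMap_comp, ← spMap_comp, Category.assoc, Category.assoc, ← hf, he, hg, MonObj.comp_one]
  have := congrArg (fun g => g o) this
  exact Ideal.Quotient.eq.1 this

/-- Points of a group scheme over a local ring which are trivial modulo a square-zero ideal commute. -/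
theorem comm_local [IsLocalRing T] (I : Ideal T) (hIm : I ≤ IsLocalRing.maximalIdeal T)
    (hI : ∀ a ∈ I, ∀ b ∈ I, a * b = 0) (g g' : sp R T ⟶ B)
    (hg : spMap (Ideal.Quotient.mkₐ R I) ≫ g = 1) (hg' : spMap (Ideal.Quotient.mkₐ R I) ≫ g' = 1) :
    g * g' = g' * g := by
  obtain ⟨O, _, _, j, hj, hx⟩ := exists_chart B ((1 : sp R T ⟶ B).left (IsLocalRing.closedPoint T))
  obtain ⟨e, he⟩ := exists_factor B j 1 hx
  obtain ⟨f, rfl, hf⟩ := exists_factor_of_trivial B I hIm j e he.symm g hg
  obtain ⟨f', rfl, hf'⟩ := exists_factor_of_trivial B I hIm j e he.symm g' hg'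
  let k : O →ₐ[R] T := (sm R I hI).comp (toD I e f f' hf hf')
  rw [mul_eq B j I hIm hI e f f' k he.symm hf hf' (fun o => rfl),
    mul_eq B j I hIm hI e f' f k he.symm hf' hf (fun o => by
      change f o + f' o - e o = f' o + f o - e o
      ring)]

/-- Points of a group scheme over `Spec R` with values in an arbitrary `Y` which are trivial modulo a square-zero
ideal of `R` commute. -/
theorem comm_of_pullback_eq_one (J : Ideal R) (hJ : J * J = ⊥)
    (Y : Over (Spec (CommRingCat.of R))) (g g' : Y ⟶ B)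
    (hg : (Over.pullback (Spec.map (CommRingCat.ofHom (Ideal.Quotient.mk J)))).map g = 1)
    (hg' : (Over.pullback (Spec.map (CommRingCat.ofHom (Ideal.Quotient.mk J)))).map g' = 1) :
    g * g' = g' * g := by
  have hg1 : (Over.pullback (Spec.map (CommRingCat.ofHom (Ideal.Quotient.mk J)))).map g =
      (Over.pullback (Spec.map (CommRingCat.ofHom (Ideal.Quotient.mk J)))).map 1 := by
    rw [hg]; exact (Functor.map_one _).symm
  have hg1' : (Over.pullback (Spec.map (CommRingCat.ofHom (Ideal.Quotient.mk J)))).map g' =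
      (Over.pullback (Spec.map (CommRingCat.ofHom (Ideal.Quotient.mk J)))).map 1 := by
    rw [hg']; exact (Functor.map_one _).symm
  ext1
  refine StalkExt.hom_ext _ _ fun y => ?_
  obtain ⟨ρ, hρ⟩ := Spec.map_surjective (Y.left.fromSpecStalk y ≫ Y.hom)
  let _ : Algebra R (Y.left.presheaf.stalk y) := ρ.hom.toAlgebra
  let t : sp R (Y.left.presheaf.stalk y) ⟶ Y := Over.homMk (Y.left.fromSpecStalk y) hρ.symm
  let I : Ideal (Y.left.presheaf.stalk y) := J.map ρ.hom
  have hII : I * I = ⊥ := by rw [← Ideal.map_mul, hJ, Ideal.map_bot]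
  have hI : ∀ a ∈ I, ∀ b ∈ I, a * b = 0 := fun a ha b hb => by
    have : a * b ∈ I * I := Ideal.mul_mem_mul ha hb
    rwa [hII] at this
  have hIm : I ≤ IsLocalRing.maximalIdeal (Y.left.presheaf.stalk y) := by
    intro a ha
    by_contra hc
    have hu : IsUnit a := by
      rwa [IsLocalRing.mem_maximalIdeal, mem_nonunits_iff, not_not] at hc
    have h0 : IsUnit (0 : Y.left.presheaf.stalk y) := by
      rw [← hI a ha a ha]; exact hu.mul hu
    exact not_isUnit_zero h0
  have key : ∀ f : Y ⟶ B, (Over.pullback (Spec.map (CommRingCat.ofHom (Ideal.Quotient.mk J)))).map f =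
      (Over.pullback (Spec.map (CommRingCat.ofHom (Ideal.Quotient.mk J)))).map 1 →
      spMap (Ideal.Quotient.mkₐ R I) ≫ t ≫ f = 1 := by
    intro f hf
    have h1 := SqZero.comp_eq_of_pullback_map_eq _ f 1 hf
      (Spec.map (CommRingCat.ofHom (Ideal.Quotient.mk I)) ≫ Y.left.fromSpecStalk y)
      (Spec.map (CommRingCat.ofHom (Ideal.quotientMap I ρ.hom Ideal.le_comap_map))) (by
        rw [Category.assoc, ← hρ, ← Spec.map_comp, ← Spec.map_comp]
        rfl)
    have h2 : spMap (Ideal.Quotient.mkₐ R I) ≫ t ≫ f = spMap (Ideal.Quotient.mkₐ R I) ≫ t ≫ 1 := by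
      ext1
      rw [Category.assoc, Category.assoc] at h1
      exact h1
    rw [h2, MonObj.comp_one, MonObj.comp_one]
  have h3 := comm_local B I hIm hI (t ≫ g) (t ≫ g') (key g hg1) (key g' hg1')
  rw [← MonObj.comp_mul, ← MonObj.comp_mul] at h3
  exact congrArg (fun x => x.left) h3

end Groth.Agent.SGA3.K211.InfComm
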