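import Mathlib.CategoryTheory.Monoidal.Cartesian.Grp

/-!
# Associative laws with bijective translations

`X` an object of a cartesian monoidal category with an associative law `P : X ⊗ X ⟶ X` such that
`(x, y) ↦ (x, xy)` and `(x, y) ↦ (xy, y)` are isomorphisms. If the morphism `unit P : X ⟶ X`
(`x ↦` the right unit of `x`) factors through the terminal object, `P` is a group law.
-/

set_option autoImplicit false
universe v u
open CategoryTheory MonoidalCategory CartesianMonoidalCategory MonObj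

namespace Groth.Agent.SGA3.K211.LawGrp

variable {C : Type u} [Category.{v} C] [CartesianMonoidalCategory C] {X : C} (P : X ⊗ X ⟶ X)

/-- The product of two points. -/
def m {T : C} (a b : T ⟶ X) : T ⟶ X := lift a b ≫ P

theorem comp_m {T T' : C} (t : T' ⟶ T) (a b : T ⟶ X) : t ≫ m P a b = m P (t ≫ a) (t ≫ b) := by
  simp [m, comp_lift_assoc]

theorem m_assoc (hassoc : (P ▷ X) ≫ P = (α_ X X X).hom ≫ (X ◁ P) ≫ P) {T : C} (a b c : T ⟶ X) :
    m P (m P a b) c = m P a (m P b c) := by
  have h := congrArg (fun t => lift (lift a b) c ≫ t) hassoc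
  simp only [lift_whiskerRight_assoc, lift_lift_associator_hom_assoc, lift_whiskerLeft_assoc] at h
  exact h

/-- `(x, y) ↦ (x, xy)`. -/
def Phi : X ⊗ X ⟶ X ⊗ X := lift (fst X X) P

/-- `(x, y) ↦ (xy, y)`. -/
def Psi : X ⊗ X ⟶ X ⊗ X := lift P (snd X X)

theorem lift_Phi {T : C} (a b : T ⟶ X) : lift a b ≫ Phi P = lift a (m P a b) := by
  simp [Phi, m, comp_lift]

theorem lift_Psi {T : C} (a b : T ⟶ X) : lift a b ≫ Psi P = lift (m P a b) b := by
  simp [Psi, m, comp_lift]

theorem lift_inj {T : C} {a b a' b' : T ⟶ X} (h : lift a b = lift a' b') : a = a' ∧ b = b' :=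
  ⟨by simpa using congrArg (· ≫ fst X X) h, by simpa using congrArg (· ≫ snd X X) h⟩

theorem left_cancel [IsIso (Phi P)] {T : C} {a b b' : T ⟶ X} (h : m P a b = m P a b') : b = b' := by
  have h1 : lift a b ≫ Phi P = lift a b' ≫ Phi P := by rw [lift_Phi, lift_Phi, h]
  exact (lift_inj ((cancel_mono (Phi P)).1 h1)).2

theorem right_cancel [IsIso (Psi P)] {T : C} {a a' b : T ⟶ X} (h : m P a b = m P a' b) : a = a' := by
  have h1 : lift a b ≫ Psi P = lift a' b ≫ Psi P := by rw [lift_Psi, lift_Psi, h]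
  exact (lift_inj ((cancel_mono (Psi P)).1 h1)).1

/-- Left division. -/
noncomputable def ld [IsIso (Phi P)] {T : C} (a c : T ⟶ X) : T ⟶ X := lift a c ≫ inv (Phi P) ≫ snd X X

theorem m_ld [IsIso (Phi P)] {T : C} (a c : T ⟶ X) : m P a (ld P a c) = c := by
  have h1 : lift (lift a c ≫ inv (Phi P) ≫ fst X X) (ld P a c) ≫ Phi P = lift a c := by
    have : lift (lift a c ≫ inv (Phi P) ≫ fst X X) (ld P a c) = lift a c ≫ inv (Phi P) := by
      ext <;> simp [ld]
    rw [this, Category.assoc, IsIso.inv_hom_id, Category.comp_id]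
  rw [lift_Phi] at h1
  obtain ⟨h2, h3⟩ := lift_inj h1
  rwa [h2] at h3

/-- The morphism sending a point to its right unit. -/
noncomputable def unit [IsIso (Phi P)] : X ⟶ X := ld P (𝟙 X) (𝟙 X)

section

variable [IsIso (Phi P)]

theorem m_unit_self {T : C} (b : T ⟶ X) : m P b (b ≫ unit P) = b := by
  have h := congrArg (fun t => b ≫ t) (m_ld P (𝟙 X) (𝟙 X))
  simp only [comp_m, Category.comp_id] at h
  exact h

variable (hassoc : (P ▷ X) ≫ P = (α_ X X X).hom ≫ (X ◁ P) ≫ P)

include hassoc

theorem unit_m {T : C} (b c : T ⟶ X) : m P (b ≫ unit P) c = c := by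
  apply left_cancel P (a := b)
  rw [← m_assoc P hassoc, m_unit_self]

variable [IsIso (Psi P)]

theorem m_unit {T : C} (b c : T ⟶ X) : m P c (b ≫ unit P) = c := by
  apply right_cancel P (b := c)
  rw [m_assoc P hassoc, unit_m P hassoc]

theorem unit_eq {T : C} (b b' : T ⟶ X) : b ≫ unit P = b' ≫ unit P := by
  rw [← m_unit P hassoc b' (b ≫ unit P), unit_m P hassoc]

/-- If the unit descends to a point, `P` is the multiplication of a group object. -/
theorem exists_grpObj (e : 𝟙_ C ⟶ X) (he : toUnit X ≫ e = unit P) : ∃ _ : GrpObj X, μ[X] = P := by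
  have h1 : ∀ {T : C} (b : T ⟶ X), toUnit T ≫ e = b ≫ unit P := by
    intro T b
    rw [← he, ← Category.assoc]
    congr 1
    exact toUnit_unique _ _
  have hone : e ▷ X ≫ P = (λ_ X).hom := by
    have h2 : e ▷ X = lift (toUnit _ ≫ e) (snd (𝟙_ C) X) := by
      ext
      · simp only [whiskerRight_fst, lift_fst]
        congr 1
        exact toUnit_unique _ _
      · simp
    rw [h2, leftUnitor_hom]
    change m P _ _ = _
    rw [h1 (snd (𝟙_ C) X)]
    exact unit_m P hassoc _ _
  have hmul : X ◁ e ≫ P = (ρ_ X).hom := by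
    have h2 : X ◁ e = lift (fst X (𝟙_ C)) (toUnit _ ≫ e) := by
      ext
      · simp
      · simp only [whiskerLeft_snd, lift_snd]
        congr 1
        exact toUnit_unique _ _
    rw [h2, rightUnitor_hom]
    change m P _ _ = _
    rw [h1 (fst X (𝟙_ C))]
    exact m_unit P hassoc _ _
  let i : X ⟶ X := ld P (𝟙 X) (unit P)
  have hi : m P (𝟙 X) i = unit P := m_ld P _ _
  have hi' : m P i (𝟙 X) = unit P := by
    apply left_cancel P (a := 𝟙 X)
    rw [← m_assoc P hassoc, hi]
    have h3 := unit_m P hassoc (𝟙 X) (𝟙 X)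
    have h4 := m_unit P hassoc (𝟙 X) (𝟙 X)
    rw [Category.id_comp] at h3 h4
    rw [h3, h4]
  let M : MonObj X :=
    { one := e
      mul := P
      one_mul := hone
      mul_one := hmul
      mul_assoc := hassoc }
  exact ⟨{ M with
    inv := i
    left_inv := hi'.trans he.symm
    right_inv := hi.trans he.symm }, rfl⟩

end

end Groth.Agent.SGA3.K211.LawGrp
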