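import Groth.Agent.SGA3.K211.IsoNilp
import Groth.Agent.SGA3.K211.LawGrp
import Mathlib.AlgebraicGeometry.Sites.Fpqc
import Mathlib.CategoryTheory.Monoidal.Cartesian.Over

/-!
# A law which is a group law modulo a nilpotent ideal of the base
-/

set_option autoImplicit false
universe v u
open CategoryTheory MonoidalCategory CartesianMonoidalCategory MonObj AlgebraicGeometry Limits

namespace Groth.Agent.SGA3.K211.LiftLaw

open LawGrp

section Cat

variable {C : Type*} [Category C] [CartesianMonoidalCategory C]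

theorem isIso_Phi_mul (G : C) [GrpObj G] : IsIso (Phi μ[G]) := by
  have hmul : fst G G * snd G G = μ[G] := by
    rw [Hom.mul_def, lift_fst_snd, Category.id_comp]
  refine ⟨lift (fst G G) ((fst G G)⁻¹ * snd G G), ?_, ?_⟩
  · ext
    · simp [Phi]
    · rw [Category.assoc, lift_snd, MonObj.comp_mul, GrpObj.comp_inv, Category.id_comp, Phi, lift_fst, lift_snd,
        ← hmul, inv_mul_cancel_left]
  · ext
    · simp [Phi]
    · rw [Category.assoc, Phi, lift_snd, ← hmul, MonObj.comp_mul, lift_fst, lift_snd, mul_inv_cancel_left,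
        Category.id_comp]

theorem isIso_Psi_mul (G : C) [GrpObj G] : IsIso (Psi μ[G]) := by
  have hmul : fst G G * snd G G = μ[G] := by
    rw [Hom.mul_def, lift_fst_snd, Category.id_comp]
  refine ⟨lift (fst G G * (snd G G)⁻¹) (snd G G), ?_, ?_⟩
  · ext
    · rw [Category.assoc, lift_fst, MonObj.comp_mul, GrpObj.comp_inv, Category.id_comp, Psi, lift_fst, lift_snd,
        ← hmul, mul_inv_cancel_right]
    · simp [Psi]
  · ext
    · rw [Category.assoc, Psi, lift_fst, ← hmul, MonObj.comp_mul, lift_fst, lift_snd, inv_mul_cancel_right,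
        Category.id_comp]
    · simp [Psi]

variable {D : Type*} [Category D] [CartesianMonoidalCategory D] (F : C ⥤ D) [F.Monoidal]

theorem isIso_map_Phi {X : C} (P : X ⊗ X ⟶ X) (h : IsIso (Phi (Functor.LaxMonoidal.μ F X X ≫ F.map P))) :
    IsIso (F.map (Phi P)) := by
  have h1 : F.map (Phi P) = inv (Functor.LaxMonoidal.μ F X X) ≫
      Phi (Functor.LaxMonoidal.μ F X X ≫ F.map P) ≫ Functor.LaxMonoidal.μ F X X := by
    rw [IsIso.eq_inv_comp, ← cancel_mono (Functor.OplaxMonoidal.δ F X X)]
    simp only [Category.assoc, Functor.Monoidal.μ_δ, Category.comp_id]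
    ext
    · simp only [Category.assoc, Functor.OplaxMonoidal.δ_fst, ← Functor.map_comp, Phi, lift_fst]
      simp
    · simp only [Category.assoc, Functor.OplaxMonoidal.δ_snd, ← Functor.map_comp, Phi, lift_snd]
  rw [h1]
  infer_instance

theorem isIso_map_Psi {X : C} (P : X ⊗ X ⟶ X) (h : IsIso (Psi (Functor.LaxMonoidal.μ F X X ≫ F.map P))) :
    IsIso (F.map (Psi P)) := by
  have h1 : F.map (Psi P) = inv (Functor.LaxMonoidal.μ F X X) ≫
      Psi (Functor.LaxMonoidal.μ F X X ≫ F.map P) ≫ Functor.LaxMonoidal.μ F X X := by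
    rw [IsIso.eq_inv_comp, ← cancel_mono (Functor.OplaxMonoidal.δ F X X)]
    simp only [Category.assoc, Functor.Monoidal.μ_δ, Category.comp_id]
    ext
    · simp only [Category.assoc, Functor.OplaxMonoidal.δ_fst, ← Functor.map_comp, Psi, lift_fst]
    · simp only [Category.assoc, Functor.OplaxMonoidal.δ_snd, ← Functor.map_comp, Psi, lift_snd]
      simp
  rw [h1]
  infer_instance

end Cat

theorem exists_unit_point {S : Scheme.{u}} {X : Over S} (P : X ⊗ X ⟶ X) [IsIso (Phi P)] [IsIso (Psi P)]
    (hassoc : (P ▷ X) ≫ P = (α_ X X X).hom ≫ (X ◁ P) ≫ P) [EffectiveEpi X.hom] :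
    ∃ e : 𝟙_ (Over S) ⟶ X, toUnit X ≫ e = unit P := by
  let e₀ : S ⟶ X.left := EffectiveEpi.desc X.hom (unit P).left (by
    intro Z g₁ g₂ hg
    let b : Over.mk (g₁ ≫ X.hom) ⟶ X := Over.homMk g₁ rfl
    let b' : Over.mk (g₁ ≫ X.hom) ⟶ X := Over.homMk g₂ hg.symm
    exact congrArg CommaMorphism.left (unit_eq P hassoc b b'))
  have he₀ : X.hom ≫ e₀ = (unit P).left := EffectiveEpi.fac X.hom _ _
  have he₁ : e₀ ≫ X.hom = 𝟙 S := by
    rw [← cancel_epi X.hom, reassoc_of% he₀, Over.w, Category.comp_id]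
  refine ⟨Over.homMk e₀ he₁, ?_⟩
  ext1
  have h2 : (toUnit X).left = X.hom := by
    have := Over.w (toUnit X)
    exact (Category.comp_id _).symm.trans this
  rw [Over.comp_left, h2]
  exact he₀

/-- A law on a flat scheme, quasi-compact or locally of finite presentation, which is associative and is a group
law over a finite order thickening of the base, is a group law. -/
theorem main {S S₀ : Scheme.{u}} (i : S₀ ⟶ S) (hi : MoreMor.IsFiniteOrderThickening i) (X : Over S) [Flat X.hom]
    (hX : QuasiCompact X.hom ∨ LocallyOfFinitePresentation X.hom) (P : X ⊗ X ⟶ X)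
    (hassoc : (P ▷ X) ≫ P = (α_ X X X).hom ≫ (X ◁ P) ≫ P)
    (h0 : ∃ _ : GrpObj ((Over.pullback i).obj X),
      μ[(Over.pullback i).obj X] = Functor.LaxMonoidal.μ (Over.pullback i) X X ≫ (Over.pullback i).map P) :
    ∃ _ : GrpObj X, μ[X] = P := by
  obtain ⟨hG, hμ⟩ := h0
  have hflat : Flat (X ⊗ X).hom := by
    rw [Over.tensorObj_hom]
    infer_instance
  have h1 : IsIso (Phi P) := by
    refine IsoNilp.isIso_of_pullback_map i hi _ (isIso_map_Phi _ P ?_)
    rw [← hμ]
    exact isIso_Phi_mul _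
  have h2 : IsIso (Psi P) := by
    refine IsoNilp.isIso_of_pullback_map i hi _ (isIso_map_Psi _ P ?_)
    rw [← hμ]
    exact isIso_Psi_mul _
  have hs : Surjective X.hom := by
    refine ⟨fun s => ?_⟩
    obtain ⟨s₀, rfl⟩ := hi.1.2.surj s
    have h3 : (η[(Over.pullback i).obj X]).left ≫ pullback.snd X.hom i = 𝟙 _ := Over.w η[(Over.pullback i).obj X]
    have h4 : ((η[(Over.pullback i).obj X]).left ≫ pullback.fst X.hom i) ≫ X.hom = i := by
      rw [Category.assoc, pullback.condition, reassoc_of% h3]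
    refine ⟨((η[(Over.pullback i).obj X]).left ≫ pullback.fst X.hom i) s₀, ?_⟩
    rw [← Scheme.Hom.comp_apply, h4]
  have heff : EffectiveEpi X.hom := by
    rcases hX with h | h
    · infer_instance
    · infer_instance
  obtain ⟨e, he⟩ := exists_unit_point P hassoc
  exact exists_grpObj P hassoc e he

end Groth.Agent.SGA3.K211.LiftLaw
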