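import Groth.Agent.S1677
import Groth.Agent.GrpSch.K268.LciField
import Groth.Agent.SDiv.K470.RegImmAt
import Groth.Prelude.Def_Red

/-!
# Flat subgroup schemes of smooth group schemes are regularly immersed
-/

set_option autoImplicit false
universe u
open CategoryTheory CategoryTheory.Limits MonoidalCategory CartesianMonoidalCategory MonObj AlgebraicGeometry

namespace Groth.Agent.SGA3.K211.RegSub

open Groth.Agent.Divis.RegImm Groth.Agent.Divis.RegStalk K470.RegImmAt

/-- A flat group scheme locally of finite presentation is a complete intersection morphism. -/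
theorem isCIMorphism {S : Scheme.{u}} (Y : Over S) [GrpObj Y] [Flat Y.hom] [LocallyOfFinitePresentation Y.hom] :
    CInt.IsCIMorphism Y.hom := by
  refine ⟨inferInstance, inferInstance, fun y => ?_⟩
  let G : Over (Spec (CommRingCat.of (S.residueField (Y.hom y)))) := Red.bc (S.fromSpecResidueField (Y.hom y)) Y
  have h1 : LocallyOfFiniteType G.hom :=
    inferInstanceAs (LocallyOfFiniteType (pullback.snd Y.hom (S.fromSpecResidueField (Y.hom y))))
  have hG : GrpObj G := inferInstanceAs (GrpObj (Red.bc (S.fromSpecResidueField (Y.hom y)) Y))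
  exact K268.LciField.isCompleteIntersection_stalk G (Y.hom.asFiber y)

/-- Immersions whose factorisation through the coborder is a regular closed immersion are regular. -/
theorem isRegularImmersion_of_liftCoborder {X Z : Scheme.{u}} (i : Z ⟶ X) [IsImmersion i]
    (h : Mor2.IsRegularClosedImmersion i.liftCoborder) : RegImm.IsRegularImmersion .regular i := by
  refine ⟨inferInstance, fun z => ?_⟩
  have hcl := isClosedImmersion_restrict_coborderRange i
  have hz : i z ∈ i.coborderRange := subset_coborder ⟨z, rfl⟩
  refine isRegularImmersionAt_of_regAt i z i.coborderRange hz ?_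
  have h1 : i ⁻¹ᵁ i.coborderRange = ⊤ := top_le_iff.1 fun z _ => subset_coborder ⟨z, rfl⟩
  have h2 : (i ∣_ i.coborderRange) = (i ⁻¹ᵁ i.coborderRange).ι ≫ i.liftCoborder := by
    rw [← cancel_mono i.coborderRange.ι, morphismRestrict_ι, Category.assoc, Scheme.Hom.liftCoborder_ι]
  have h3 : IsIso (i ⁻¹ᵁ i.coborderRange).ι := by
    rw [h1]
    exact (Scheme.topIso Z).isIso_hom
  rw [h2, Scheme.Hom.ker_comp_of_isIso]
  obtain ⟨U, hU, hzU, rs, hrs, hI⟩ := h.2 z
  exact ⟨⟨U, hU⟩, hzU, rs, hrs.1, hI⟩

theorem main {S : Scheme.{u}} (X Y : Over S) [GrpObj Y]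
    [Smooth X.hom] [Flat Y.hom] [LocallyOfFinitePresentation Y.hom] (i : Y ⟶ X)
    [IsImmersion i.left] : RegImm.IsRegularImmersion .regular i.left := by
  apply isRegularImmersion_of_liftCoborder
  have h1 : i.left.liftCoborder ≫ i.left.coborderRange.ι ≫ X.hom = Y.hom := by
    rw [Scheme.Hom.liftCoborder_ι_assoc, Over.w]
  refine Groth.Agent.S1677.result (i.left.coborderRange.ι ≫ X.hom) i.left.liftCoborder ?_
  rw [h1]
  exact isCIMorphism Y

end Groth.Agent.SGA3.K211.RegSub
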