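import Groth.Prelude.Def_VecGrp
import Mathlib.AlgebraicGeometry.Morphisms.Descent
import Mathlib.AlgebraicGeometry.Morphisms.LocalIso

/-!
# A flat affine cover of a quasi-compact flat scheme over an affine base, with local liftings of points

* `exists_cover`: a compact scheme `G` over `Spec R`, flat, has a flat `R`-algebra `C` and a point `u` of `G` in `C`
  such that every point of `G` in `B` factors through `u` after localization at each prime of `B`.
* `mem_range_of_cover`: transfer of `ρ_C(u)(1 ⊗ x) ∈ im(C ⊗ N)` to all points.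
-/

set_option autoImplicit false
universe u
open CategoryTheory MonObj GrpObj AlgebraicGeometry Limits
open scoped TensorProduct

namespace Groth.Agent.SGA3.K211.GCover

variable {R : Type u} [CommRing R]

/-- The algebra map of a morphism of affine test schemes over `R`. -/
theorem exists_algHom {B C : Type u} [CommRing B] [Algebra R B] [CommRing C] [Algebra R C]
    (v : VecGrp.pt R B ⟶ VecGrp.pt R C) : ∃ h : C →ₐ[R] B, v = VecGrp.ptMap h := by
  obtain ⟨f, hf⟩ := Spec.map_surjective v.left
  have hc : Spec.map f ≫ Spec.map (CommRingCat.ofHom (algebraMap R C)) =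
      Spec.map (CommRingCat.ofHom (algebraMap R B)) := by
    rw [hf]
    exact Over.w v
  rw [← Spec.map_comp] at hc
  have hc' := Spec.map_injective hc
  refine ⟨⟨f.hom, fun r => ?_⟩, ?_⟩
  · exact congr($(congrArg CommRingCat.Hom.hom hc') r)
  · ext1
    exact hf.symm

/-- The local lifting property. -/
def Lifts {G : Over (Spec (CommRingCat.of R))} {C : Type u} [CommRing C] [Algebra R C]
    (u : VecGrp.pt R C ⟶ G) : Prop :=
  ∀ (B : Type u) [CommRing B] [Algebra R B] (g : VecGrp.pt R B ⟶ G) (P : Ideal B) [P.IsPrime],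
    ∃ h : C →ₐ[R] Localization.AtPrime P,
      VecGrp.ptMap (IsScalarTower.toAlgHom R B (Localization.AtPrime P)) ≫ g = VecGrp.ptMap h ≫ u

theorem exists_lift_local {X Y : Scheme.{u}} (p : Y ⟶ X) [IsLocalIso p] [Surjective p]
    {B : CommRingCat.{u}} [IsLocalRing B] (g : Spec B ⟶ X) : ∃ h : Spec B ⟶ Y, h ≫ p = g := by
  obtain ⟨y, hy⟩ := p.surjective (g (IsLocalRing.closedPoint B))
  obtain ⟨U, hyU, hU⟩ := IsLocalIso.exists_isOpenImmersion (f := p) y
  have hr : Set.range g ⊆ Set.range (U.ι ≫ p) := by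
    have hV : IsLocalRing.closedPoint B ∈ g ⁻¹ᵁ (U.ι ≫ p).opensRange := by
      change g (IsLocalRing.closedPoint B) ∈ Set.range (U.ι ≫ p)
      rw [← hy]
      exact ⟨⟨y, hyU⟩, rfl⟩
    have := (IsLocalRing.closed_point_mem_iff (R := B) (U := g ⁻¹ᵁ (U.ι ≫ p).opensRange)).1 hV
    rintro _ ⟨z, rfl⟩
    have hz : z ∈ g ⁻¹ᵁ (U.ι ≫ p).opensRange := this ▸ trivial
    exact hz
  refine ⟨IsOpenImmersion.lift (U.ι ≫ p) g hr ≫ U.ι, ?_⟩
  rw [Category.assoc, IsOpenImmersion.lift_fac]

set_option backward.isDefEq.respectTransparency false in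
theorem exists_cover (G : Over (Spec (CommRingCat.of R))) [Flat G.hom] [QuasiCompact G.hom] :
    ∃ (C : Type u) (_ : CommRing C) (_ : Algebra R C) (u : VecGrp.pt R C ⟶ G),
      Module.Flat R C ∧ IsLocalIso u.left ∧ Surjective u.left ∧ Lifts u := by
  have : CompactSpace G.left := QuasiCompact.compactSpace_of_compactSpace G.hom
  obtain ⟨Y, p, hps, hpl, hY⟩ := G.left.exists_hom_isAffine_of_isZariskiLocalAtSource @IsLocalIso
  have : IsLocalIso p := hpl
  let C : CommRingCat.{u} := Γ(Y, ⊤)
  let q : Spec C ⟶ G.left := Y.isoSpec.inv ≫ p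
  obtain ⟨φ, hφ⟩ := Spec.map_surjective (q ≫ G.hom)
  let : Algebra R C := φ.hom.toAlgebra
  have hφ' : Spec.map (CommRingCat.ofHom (algebraMap R C)) = q ≫ G.hom := hφ
  let u : VecGrp.pt R C ⟶ G := Over.homMk q hφ'.symm
  have : IsLocalIso q := by
    change IsLocalIso (Y.isoSpec.inv ≫ p)
    exact MorphismProperty.comp_mem _ _ _
      (IsZariskiLocalAtSource.of_isOpenImmersion (P := @IsLocalIso) _) hpl
  have : Surjective q := inferInstanceAs (Surjective (Y.isoSpec.inv ≫ p))
  refine ⟨C, inferInstance, inferInstance, u, ?_, ‹IsLocalIso q›, ‹Surjective q›, ?_⟩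
  · have : Flat q := by
      have h0 := IsLocalIso.le_of_isZariskiLocalAtSource @Flat.{u}
      exact h0 _ _ q ‹IsLocalIso q›
    have h1 : Flat (Spec.map φ) := by rw [hφ]; infer_instance
    exact (Flat.SpecMap_iff).1 h1
  · intro B _ _ g P _
    obtain ⟨h, hh⟩ := exists_lift_local q
      (B := CommRingCat.of (Localization.AtPrime P))
      (VecGrp.ptMap (IsScalarTower.toAlgHom R B (Localization.AtPrime P)) ≫ g).left
    let v : VecGrp.pt R (Localization.AtPrime P) ⟶ VecGrp.pt R C := Over.homMk h (by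
      change h ≫ Spec.map (CommRingCat.ofHom (algebraMap R C)) = _
      rw [hφ', reassoc_of% hh]
      exact Over.w _)
    obtain ⟨w, hw⟩ := exists_algHom v
    refine ⟨w, ?_⟩
    rw [← hw]
    ext1
    exact hh.symm

section Transfer

variable {G : Over (Spec (CommRingCat.of R))} [GrpObj G] {E : Type u} [AddCommGroup E] [Module R E]

theorem mem_range_iff (N : Submodule R E) {B : Type u} [CommRing B] [Algebra R B] (y : B ⊗[R] E) :
    y ∈ LinearMap.range (N.subtype.baseChange B) ↔ N.mkQ.baseChange B y = 0 := by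
  have h : Function.Exact (N.subtype.lTensor B) (N.mkQ.lTensor B) :=
    lTensor_exact B (LinearMap.exact_subtype_mkQ N) N.mkQ_surjective
  exact (h y).symm

theorem Wmap_baseChange {E' : Type u} [AddCommGroup E'] [Module R E'] (f : E →ₗ[R] E')
    {B B' : Type u} [CommRing B] [Algebra R B] [CommRing B'] [Algebra R B'] (φ : B →ₐ[R] B') (y : B ⊗[R] E) :
    VecGrp.Wmap φ (f.baseChange B y) = f.baseChange B' (VecGrp.Wmap φ y) := by
  induction y with
  | zero => simp
  | add x y hx hy => simp only [map_add, hx, hy]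
  | tmul b x => rfl

theorem eq_of_local {B : Type u} [CommRing B] [Algebra R B] {y y' : B ⊗[R] E}
    (h : ∀ (P : Ideal B) [P.IsPrime],
      VecGrp.Wmap (IsScalarTower.toAlgHom R B (Localization.AtPrime P)) y =
      VecGrp.Wmap (IsScalarTower.toAlgHom R B (Localization.AtPrime P)) y') : y = y' := by
  refine Module.eq_of_localization_maximal (fun P _ => Localization.AtPrime P ⊗[R] E)
    (fun P _ => TensorProduct.AlgebraTensorModule.rTensor R E (Algebra.linearMap B (Localization.AtPrime P)))
    y y' ?_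
  intro P hP
  exact h P

theorem mem_range_of_cover (m : VecGrp.GMod G E) {C : Type u} [CommRing C] [Algebra R C]
    {u : VecGrp.pt R C ⟶ G} (hu : Lifts u) (N : Submodule R E) {x : E}
    (hx : m.ρ C u ((1 : C) ⊗ₜ[R] x) ∈ LinearMap.range (N.subtype.baseChange C))
    {B : Type u} [CommRing B] [Algebra R B] (g : VecGrp.pt R B ⟶ G) :
    m.ρ B g ((1 : B) ⊗ₜ[R] x) ∈ LinearMap.range (N.subtype.baseChange B) := by
  rw [mem_range_iff] at hx ⊢
  apply eq_of_local
  intro P hP
  obtain ⟨h, hh⟩ := hu B g P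
  rw [map_zero, Wmap_baseChange, m.naturality, hh, VecGrp.Wmap_tmul, map_one]
  have h1 : ((1 : Localization.AtPrime P) ⊗ₜ[R] x : Localization.AtPrime P ⊗[R] E) =
      VecGrp.Wmap h ((1 : C) ⊗ₜ[R] x) := by
    rw [VecGrp.Wmap_tmul, map_one]
  rw [h1, ← m.naturality, ← Wmap_baseChange, hx, map_zero]

end Transfer

end Groth.Agent.SGA3.K211.GCover
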