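import Groth.Agent.SGA3.K211.GStable
import Mathlib.AlgebraicGeometry.Sites.Fpqc
import Mathlib.LinearAlgebra.DirectSum.Finsupp
import Mathlib.Algebra.Module.Projective

/-!
# Functions of a group scheme with a flat affine cover, and stable submodules when they are projective
-/

set_option autoImplicit false
universe u
open CategoryTheory MonObj GrpObj AlgebraicGeometry Limits
open scoped TensorProduct

namespace Groth.Agent.SGA3.K211.GFun

open GCover GStable

set_option backward.isDefEq.respectTransparency false in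
theorem appTop_injective {X Y : Scheme.{u}} (q : Y ⟶ X) [Flat q] [Surjective q] :
    Function.Injective q.appTop.hom := by
  intro a b hab
  apply TopCat.Presheaf.section_ext X.sheaf ⊤
  intro x _
  obtain ⟨y, rfl⟩ := q.surjective x
  have h1 : Function.Injective (q.stalkMap y).hom := by
    algebraize [(q.stalkMap y).hom]
    have : Module.FaithfullyFlat (X.presheaf.stalk (q y)) (Y.presheaf.stalk y) :=
      @Module.FaithfullyFlat.of_flat_of_isLocalHom _ _ _ _ _ _ _
        (Flat.stalkMap q y) (q.toLRSHom.prop y)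
    exact ‹RingHom.FaithfullyFlat _›.injective
  apply h1
  have h2 := Scheme.Hom.germ_stalkMap_apply q ⊤ y trivial a
  have h3 := Scheme.Hom.germ_stalkMap_apply q ⊤ y trivial b
  have h4 : q.app ⊤ a = q.app ⊤ b := hab
  exact h2.trans ((congrArg _ h4).trans h3.symm)

set_option backward.isDefEq.respectTransparency false in
theorem exists_appTop_eq {X : Scheme.{u}} {C C' : CommRingCat.{u}} (q : Spec C ⟶ X) [Flat q] [Surjective q]
    [LocallyOfFinitePresentation q] (c : Spec C' ⟶ pullback q q) [Flat c] [Surjective c] (p₁ p₂ : C ⟶ C')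
    (h₁ : Spec.map p₁ = c ≫ pullback.fst q q) (h₂ : Spec.map p₂ = c ≫ pullback.snd q q) (f : C)
    (hf : p₁.hom f = p₂.hom f) : ∃ a : Γ(X, ⊤), (Scheme.ΓSpecIso C).hom.hom (q.appTop.hom a) = f := by
  let A₀ : Subring C := RingHom.eqLocus p₁.hom p₂.hom
  let j : CommRingCat.of A₀ ⟶ C := CommRingCat.ofHom A₀.subtype
  have hj : j ≫ p₁ = j ≫ p₂ := by
    ext x
    exact x.2
  have : Epi c := Flat.epi_of_flat_of_surjective c
  have hF : pullback.fst q q ≫ Spec.map j = pullback.snd q q ≫ Spec.map j := by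
    rw [← cancel_epi c, ← Category.assoc, ← Category.assoc, ← h₁, ← h₂, ← Spec.map_comp, ← Spec.map_comp, hj]
  let d : X ⟶ Spec (CommRingCat.of A₀) := EffectiveEpi.desc q (Spec.map j) (by
    intro Z g₁ g₂ hg
    have e₁ : g₁ = pullback.lift g₁ g₂ hg ≫ pullback.fst q q := by simp
    have e₂ : g₂ = pullback.lift g₁ g₂ hg ≫ pullback.snd q q := by simp
    rw [e₁, Category.assoc, hF, ← Category.assoc, ← e₂])
  have hd : q ≫ d = Spec.map j := EffectiveEpi.fac q _ _
  refine ⟨d.appTop.hom ((Scheme.ΓSpecIso (CommRingCat.of A₀)).inv.hom ⟨f, hf⟩), ?_⟩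
  have h3 : d.appTop ≫ q.appTop = (Spec.map j).appTop := by
    rw [← hd, Scheme.Hom.comp_appTop]
  have h4 : (Scheme.ΓSpecIso (CommRingCat.of A₀)).inv ≫ d.appTop ≫ q.appTop ≫ (Scheme.ΓSpecIso C).hom = j := by
    rw [reassoc_of% h3, Scheme.ΓSpecIso_naturality, Iso.inv_hom_id_assoc]
  exact congr($(congrArg CommRingCat.Hom.hom h4) ⟨f, hf⟩)

section Fun

variable {R : Type u} [CommRing R] (G : Over (Spec (CommRingCat.of R)))

/-- The global functions. -/
abbrev Fun : Type u := Γ(G.left, ⊤)

noncomputable instance instAlg : Algebra R (Fun G) :=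
  (((Scheme.ΓSpecIso (CommRingCat.of R)).inv ≫ G.hom.appTop).hom).toAlgebra

variable {G}

/-- Evaluation of functions at a point. -/
noncomputable def gs {B : Type u} [CommRing B] [Algebra R B] (g : VecGrp.pt R B ⟶ G) : Fun G →ₐ[R] B where
  toRingHom := (g.left.appTop ≫ (Scheme.ΓSpecIso (CommRingCat.of B)).hom).hom
  commutes' r := by
    have h1 : (Scheme.ΓSpecIso (CommRingCat.of R)).inv ≫ G.hom.appTop ≫ g.left.appTop ≫
        (Scheme.ΓSpecIso (CommRingCat.of B)).hom = CommRingCat.ofHom (algebraMap R B) := by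
      have h2 : G.hom.appTop ≫ g.left.appTop = (Spec.map (CommRingCat.ofHom (algebraMap R B))).appTop := by
        rw [← Scheme.Hom.comp_appTop, Over.w g]
        rfl
      rw [reassoc_of% h2, Scheme.ΓSpecIso_naturality, Iso.inv_hom_id_assoc]
    exact congr($(congrArg CommRingCat.Hom.hom h1) r)

theorem gs_apply {B : Type u} [CommRing B] [Algebra R B] (g : VecGrp.pt R B ⟶ G) (a : Fun G) :
    gs g a = (Scheme.ΓSpecIso (CommRingCat.of B)).hom.hom (g.left.appTop.hom a) := rfl

theorem gs_comp {B B' : Type u} [CommRing B] [Algebra R B] [CommRing B'] [Algebra R B']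
    (φ : B →ₐ[R] B') (g : VecGrp.pt R B ⟶ G) : gs (VecGrp.ptMap φ ≫ g) = φ.comp (gs g) := by
  ext a
  have h1 : (VecGrp.ptMap φ ≫ g).left.appTop ≫ (Scheme.ΓSpecIso (CommRingCat.of B')).hom =
      (g.left.appTop ≫ (Scheme.ΓSpecIso (CommRingCat.of B)).hom) ≫ CommRingCat.ofHom φ.toRingHom := by
    rw [Over.comp_left, Scheme.Hom.comp_appTop, Category.assoc, VecGrp.ptMap_left,
      Scheme.ΓSpecIso_naturality, Category.assoc]
  exact congr($(congrArg CommRingCat.Hom.hom h1) a)

end Fun

section Cover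

variable {R : Type u} [CommRing R] (G : Over (Spec (CommRingCat.of R)))

set_option backward.isDefEq.respectTransparency false in
/-- A flat affine cover with an affine cover of the self fibre product, and exactness for functions. -/
theorem exists_cover₂ [Flat G.hom] [QuasiCompact G.hom] [QuasiSeparated G.hom] :
    ∃ (C : Type u) (_ : CommRing C) (_ : Algebra R C) (u : VecGrp.pt R C ⟶ G)
      (C' : Type u) (_ : CommRing C') (_ : Algebra R C') (p₁ p₂ : C →ₐ[R] C'),
      Module.Flat R C ∧ Module.Flat R C' ∧ Lifts u ∧ VecGrp.ptMap p₁ ≫ u = VecGrp.ptMap p₂ ≫ u ∧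
        Function.Injective (gs u) ∧ ∀ f, p₁ f = p₂ f → ∃ a, gs u a = f := by
  obtain ⟨C, _, _, u, hC, hl, hs, hu⟩ := exists_cover G
  have het : Etale u.left := by
    have h0 := IsLocalIso.le_of_isZariskiLocalAtSource @Etale.{u}
    exact h0 _ _ u.left hl
  have : CompactSpace (VecGrp.pt R C).left := inferInstanceAs (CompactSpace (Spec (CommRingCat.of C)))
  have hqc : QuasiCompact u.left := by
    have : QuasiSeparatedSpace G.left := quasiSeparatedSpace_of_quasiSeparated G.hom
    infer_instance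
  let P := pullback u.left u.left
  have : CompactSpace P := QuasiCompact.compactSpace_of_compactSpace (pullback.fst u.left u.left)
  obtain ⟨Y, c₀, hps, hpl, hY⟩ := P.exists_hom_isAffine_of_isZariskiLocalAtSource @IsLocalIso
  let C' : CommRingCat.{u} := Γ(Y, ⊤)
  let c : Spec C' ⟶ P := Y.isoSpec.inv ≫ c₀
  have hcf : Flat c₀ := by
    have h0 := IsLocalIso.le_of_isZariskiLocalAtSource @Flat.{u}
    exact h0 _ _ c₀ hpl
  have hcf' : Flat c := inferInstanceAs (Flat (Y.isoSpec.inv ≫ c₀))
  have hcs : Surjective c := inferInstanceAs (Surjective (Y.isoSpec.inv ≫ c₀))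
  obtain ⟨p₁, h₁⟩ := Spec.map_surjective (c ≫ pullback.fst u.left u.left)
  obtain ⟨p₂, h₂⟩ := Spec.map_surjective (c ≫ pullback.snd u.left u.left)
  let : Algebra R C' := (p₁.hom.comp (algebraMap R C)).toAlgebra
  have hw : u.left ≫ G.hom = Spec.map (CommRingCat.ofHom (algebraMap R C)) := Over.w u
  have hp : CommRingCat.ofHom (algebraMap R C) ≫ p₁ = CommRingCat.ofHom (algebraMap R C) ≫ p₂ := by
    apply Spec.map_injective
    rw [Spec.map_comp, Spec.map_comp, h₁, h₂, ← hw]
    simp only [Category.assoc, pullback.condition_assoc]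
  let p₁' : C →ₐ[R] C' := ⟨p₁.hom, fun r => rfl⟩
  let p₂' : C →ₐ[R] C' := ⟨p₂.hom, fun r => congr($(congrArg CommRingCat.Hom.hom hp) r).symm⟩
  refine ⟨C, _, _, u, C', inferInstance, inferInstance, p₁', p₂', hC, ?_, hu, ?_, ?_, ?_⟩
  · have h5 : Flat (c ≫ pullback.fst u.left u.left) := inferInstance
    rw [← h₁] at h5
    have h6 := (Flat.SpecMap_iff).1 h5
    algebraize [p₁.hom]
    have : IsScalarTower R C C' := IsScalarTower.of_algebraMap_eq fun r => rfl
    exact Module.Flat.trans R C C'
  · ext1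
    change Spec.map p₁ ≫ u.left = Spec.map p₂ ≫ u.left
    rw [h₁, h₂]
    simp only [Category.assoc, pullback.condition]
  · intro a b hab
    apply appTop_injective u.left
    exact (Scheme.ΓSpecIso (CommRingCat.of C)).commRingCatIsoToRingEquiv.injective hab
  · intro f hf
    exact exists_appTop_eq (C := CommRingCat.of C) u.left c p₁ p₂ h₁ h₂ f hf

end Cover

section Linear

variable {R : Type u} [CommRing R] {A C C' : Type u} [AddCommGroup A] [Module R A] [AddCommGroup C] [Module R C]
  [AddCommGroup C'] [Module R C'] (i : A →ₗ[R] C) (d : C →ₗ[R] C')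

/-- `A ⊗ A` is the joint kernel in `C ⊗ C`. -/
theorem exists_tensor_eq [Module.Flat R A] [Module.Flat R C] [Module.Flat R C'] (hi : Function.Injective i)
    (hex : Function.Exact i d) (w : C ⊗[R] C) (h₁ : d.rTensor C w = 0) (h₂ : d.lTensor C w = 0) :
    ∃ v : A ⊗[R] A, TensorProduct.map i i v = w := by
  obtain ⟨w', rfl⟩ := (Module.Flat.rTensor_exact C hex w).1 h₁
  have h3 : d.lTensor A w' = 0 := by
    apply Module.Flat.rTensor_preserves_injective_linearMap (M := C') i hi
    rw [map_zero, ← h₂, ← LinearMap.comp_apply, ← LinearMap.comp_apply, LinearMap.rTensor_comp_lTensor,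
      LinearMap.lTensor_comp_rTensor]
  obtain ⟨v, rfl⟩ := (Module.Flat.lTensor_exact A hex w').1 h3
  refine ⟨v, ?_⟩
  rw [← LinearMap.comp_apply, LinearMap.rTensor_comp_lTensor]

end Linear

end Groth.Agent.SGA3.K211.GFun
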