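import Groth.Agent.S1318
import Groth.Agent.SGA3.K211.SqZero
import Mathlib.CategoryTheory.Comma.Over.Pullback

/-!
# A morphism from a flat scheme which is an isomorphism modulo a nilpotent ideal of the base
-/

set_option autoImplicit false
universe u
open CategoryTheory CategoryTheory.Limits AlgebraicGeometry

namespace Groth.Agent.SGA3.K211.IsoNilp

theorem ker_appTop {A A₀ : Type u} [CommRing A] [CommRing A₀] (φ : A →+* A₀) :
    ∃ e : A ≃+* Γ(Spec (CommRingCat.of A), ⊤),
    RingHom.ker ((Spec.map (CommRingCat.ofHom φ)).app ⊤).hom = (RingHom.ker φ).map e.toRingHom := by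
  let e : A ≃+* Γ(Spec (CommRingCat.of A), ⊤) := (Scheme.ΓSpecIso (CommRingCat.of A)).symm.commRingCatIsoToRingEquiv
  refine ⟨e, ?_⟩
  have h := Scheme.ΓSpecIso_inv_naturality (CommRingCat.ofHom φ)
  have h' : ∀ a, ((Spec.map (CommRingCat.ofHom φ)).app ⊤).hom (e a) =
      (Scheme.ΓSpecIso (CommRingCat.of A₀)).inv.hom (φ a) := fun a => congr($(h).hom a).symm
  have hinj : Function.Injective (Scheme.ΓSpecIso (CommRingCat.of A₀)).inv.hom :=
    (Scheme.ΓSpecIso (CommRingCat.of A₀)).symm.commRingCatIsoToRingEquiv.injective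
  apply le_antisymm
  · intro x hx
    obtain ⟨a, rfl⟩ := e.surjective x
    refine Ideal.mem_map_of_mem e.toRingHom ?_
    rw [RingHom.mem_ker] at hx ⊢
    rw [h'] at hx
    exact hinj (hx.trans (map_zero _).symm)
  · rw [Ideal.map_le_iff_le_comap]
    intro a ha
    change ((Spec.map (CommRingCat.ofHom φ)).app ⊤).hom (e a) = 0
    rw [h', (show φ a = 0 from ha)]
    exact map_zero _

theorem isFiniteOrderThickening {A A₀ : Type u} [CommRing A] [CommRing A₀] (φ : A →+* A₀)
    (hφ : Function.Surjective φ) (hn : IsNilpotent (RingHom.ker φ)) :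
    MoreMor.IsFiniteOrderThickening (Spec.map (CommRingCat.ofHom φ)) := by
  have h1 : IsClosedImmersion (Spec.map (CommRingCat.ofHom φ)) := IsClosedImmersion.spec_of_surjective _ hφ
  have h2 := SqZero.surjective_specMap_of_nilpotent φ hφ hn
  obtain ⟨n, hn⟩ := hn
  refine ⟨⟨h1, ⟨h2⟩⟩, n, ?_⟩
  obtain ⟨e, he⟩ := ker_appTop φ
  apply Scheme.IdealSheafData.ext_of_isAffine
  rw [Scheme.IdealSheafData.ideal_pow, Pi.pow_apply, Scheme.Hom.ker_apply, he, ← Ideal.map_pow, hn]
  exact Ideal.map_bot

theorem isPullback_comp {S S₀ : Scheme.{u}} (i : S₀ ⟶ S) {X Y : Over S} (f : X ⟶ Y) :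
    IsPullback (pullback.fst X.hom i) (((Over.pullback i).map f).left ≫ pullback.snd Y.hom i)
      (f.left ≫ Y.hom) i := by
  have h : ((Over.pullback i).map f).left ≫ pullback.snd Y.hom i = pullback.snd X.hom i :=
    Over.w ((Over.pullback i).map f)
  rw [h, Over.w]
  exact IsPullback.of_hasPullback X.hom i

/-- `f : X ⟶ Y` over `S` with `X` flat over `S`, an isomorphism over a finite order thickening `S₀` of `S`,
is an isomorphism. -/
theorem isIso_of_pullback_map {S S₀ : Scheme.{u}} (i : S₀ ⟶ S) (hi : MoreMor.IsFiniteOrderThickening i)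
    {X Y : Over S} (f : X ⟶ Y) [Flat X.hom] (h : IsIso ((Over.pullback i).map f)) : IsIso f := by
  have : IsIso f.left := by
    have hfl : Flat (f.left ≫ Y.hom) := by rw [Over.w]; infer_instance
    refine (Groth.Agent.S1318.result (pullback.fst X.hom i) (pullback.fst Y.hom i) i
      ((Over.pullback i).map f).left f.left (pullback.snd Y.hom i) Y.hom hi (isPullback_comp i f)
      (IsPullback.of_hasPullback Y.hom i) ?_).1 ?_
    · exact (pullback.lift_fst _ _ _).symm
    · exact inferInstanceAs (IsIso ((Over.forget S₀).map ((Over.pullback i).map f)))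
  exact Over.isoMk (asIso f.left) (by simp) |>.isIso_hom

end Groth.Agent.SGA3.K211.IsoNilp
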