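import Groth.Agent.Flat2B.NilpFlat
import Mathlib.RingTheory.Flat.Equalizer

/-!
# Lifting exactness and flatness of cokernels along a square-zero ideal

* `lTensor_exact_of_flat`: tensoring preserves exactness of `X → Y → Z` if `Z / im` is flat.
* `exact_of_baseChange`: `J * J = 0`, `Z` flat over `A`, `X → Y → Z` a complex which is exact modulo `J` with
  `Z / im` flat modulo `J`: the complex is exact.
* `flat_coker_of_baseChange`: then `Z / im` is flat over `A`.
-/

set_option autoImplicit false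
universe u

namespace Groth.Agent.SGA3.K211.LiftExact

open TensorProduct

/-- Tensoring preserves exactness of `X → Y → Z` if `Z / im` is flat. -/
theorem lTensor_exact_of_flat {R : Type u} [CommRing R] {X Y Z : Type u} [AddCommGroup X] [AddCommGroup Y]
    [AddCommGroup Z] [Module R X] [Module R Y] [Module R Z] (f : X →ₗ[R] Y) (g : Y →ₗ[R] Z)
    (H : Function.Exact f g) [Module.Flat R (Z ⧸ LinearMap.range g)] (N : Type u) [AddCommGroup N]
    [Module R N] : Function.Exact (f.lTensor N) (g.lTensor N) := by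
  have h0 : Function.Exact f g.rangeRestrict := by
    intro y
    rw [← H y]
    exact Subtype.ext_iff
  have h1 : Function.Exact (f.lTensor N) (g.rangeRestrict.lTensor N) :=
    _root_.lTensor_exact N h0 g.surjective_rangeRestrict
  have h2 : Function.Injective ((LinearMap.range g).subtype.lTensor N) :=
    LinearMap.lTensor_injective_of_exact_of_flat (LinearMap.range g).mkQ (Submodule.mkQ_surjective _)
      (LinearMap.range g).subtype (Submodule.subtype_injective _) (LinearMap.exact_subtype_mkQ _) N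
  have h3 : ∀ y, g.lTensor N y = (LinearMap.range g).subtype.lTensor N (g.rangeRestrict.lTensor N y) := by
    intro y
    rw [← LinearMap.comp_apply, ← LinearMap.lTensor_comp]
    rfl
  intro y
  rw [h3, ← h1 y]
  constructor
  · intro h; exact h2 (by rw [h, map_zero])
  · intro h; rw [h, map_zero]

variable {A : Type u} [CommRing A] (J : Ideal A) {X Y Z : Type u} [AddCommGroup X] [AddCommGroup Y]
  [AddCommGroup Z] [Module A X] [Module A Y] [Module A Z] (f : X →ₗ[A] Y) (g : Y →ₗ[A] Z)

/-- Naturality of `cancelBaseChange` in the second variable. -/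
theorem cancelBaseChange_lTensor {B : Type u} [CommRing B] [Algebra A B] (N : Type u)
    [AddCommGroup N] [Module A N] [Module B N] [IsScalarTower A B N] (z : N ⊗[B] (B ⊗[A] X)) :
    AlgebraTensorModule.cancelBaseChange A B B N Y ((f.baseChange B).lTensor N z) =
      f.lTensor N (AlgebraTensorModule.cancelBaseChange A B B N X z) := by
  induction z using TensorProduct.induction_on with
  | zero => simp
  | add x y hx hy => simp only [map_add, hx, hy]
  | tmul p w =>
    induction w using TensorProduct.induction_on with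
    | zero => simp
    | add x y hx hy => simp only [TensorProduct.tmul_add, map_add, hx, hy]
    | tmul a m => simp

theorem lTensor_exact_of_killed
    (H : Function.Exact (f.baseChange (A ⧸ J)) (g.baseChange (A ⧸ J)))
    [Module.Flat (A ⧸ J) (((A ⧸ J) ⊗[A] Z) ⧸ LinearMap.range (g.baseChange (A ⧸ J)))]
    (N : Type u) [AddCommGroup N] [Module A N] (hN : ∀ a ∈ J, ∀ x : N, a • x = 0) :
    Function.Exact (f.lTensor N) (g.lTensor N) := by
  have hN' : Module.IsTorsionBySet A N (J : Set A) := fun x a => hN a a.2 x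
  let _ : Module (A ⧸ J) N := hN'.module
  have : IsScalarTower A (A ⧸ J) N := hN'.isScalarTower
  have h1 := lTensor_exact_of_flat _ _ H N
  intro y
  obtain ⟨y, rfl⟩ := (AlgebraTensorModule.cancelBaseChange A (A ⧸ J) (A ⧸ J) N Y).surjective y
  rw [← cancelBaseChange_lTensor, LinearEquiv.map_eq_zero_iff, h1 y]
  constructor
  · rintro ⟨x, rfl⟩
    exact ⟨_, (cancelBaseChange_lTensor f N x).symm⟩
  · rintro ⟨x, hx⟩
    obtain ⟨x, rfl⟩ := (AlgebraTensorModule.cancelBaseChange A (A ⧸ J) (A ⧸ J) N X).surjective x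
    rw [← cancelBaseChange_lTensor] at hx
    exact ⟨x, (AlgebraTensorModule.cancelBaseChange A (A ⧸ J) (A ⧸ J) N Y).injective hx⟩

/-- elements killed by reduction come from `J ⊗ M` -/
theorem exists_of_one_tmul_eq_zero (M : Type u) [AddCommGroup M] [Module A M] (y : M)
    (h : (1 : A ⧸ J) ⊗ₜ[A] y = 0) : ∃ t : J ⊗[A] M, TensorProduct.lid A M (J.subtype.rTensor M t) = y := by
  have h1 := (rTensor_exact M (LinearMap.exact_subtype_mkQ J) (Submodule.mkQ_surjective J)
    ((1 : A) ⊗ₜ[A] y)).1 (by rw [LinearMap.rTensor_tmul]; exact h)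
  obtain ⟨t, ht⟩ := h1
  refine ⟨t, ?_⟩
  rw [ht, TensorProduct.lid_tmul, one_smul]

theorem exists_one_tmul (M : Type u) [AddCommGroup M] [Module A M] (x : (A ⧸ J) ⊗[A] M) :
    ∃ m : M, x = (1 : A ⧸ J) ⊗ₜ[A] m := by
  induction x with
  | zero => exact ⟨0, by rw [tmul_zero]⟩
  | add x y hx hy =>
    obtain ⟨a, rfl⟩ := hx
    obtain ⟨b, rfl⟩ := hy
    exact ⟨a + b, by rw [tmul_add]⟩
  | tmul a m =>
    obtain ⟨a, rfl⟩ := Ideal.Quotient.mk_surjective a
    refine ⟨a • m, ?_⟩
    rw [tmul_smul, smul_tmul']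
    congr 1
    rw [Algebra.smul_def, mul_one]
    rfl

theorem lid_rTensor_lTensor (N : Submodule A A) (t : N ⊗[A] X) :
    TensorProduct.lid A Y (N.subtype.rTensor Y (f.lTensor N t)) =
      f (TensorProduct.lid A X (N.subtype.rTensor X t)) := by
  induction t with
  | zero => simp
  | add x y hx hy => simp only [map_add, hx, hy]
  | tmul a x => simp

theorem lid_rTensor_injective [Module.Flat A Z] (N : Submodule A A) :
    Function.Injective (fun t : N ⊗[A] Z => TensorProduct.lid A Z (N.subtype.rTensor Z t)) :=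
  (TensorProduct.lid A Z).injective.comp
    (Module.Flat.rTensor_preserves_injective_linearMap N.subtype Subtype.val_injective)

variable (hJ : J * J = ⊥)
include hJ

theorem exact_of_baseChange (hgf : ∀ x, g (f x) = 0) [Module.Flat A Z]
    (H : Function.Exact (f.baseChange (A ⧸ J)) (g.baseChange (A ⧸ J)))
    [Module.Flat (A ⧸ J) (((A ⧸ J) ⊗[A] Z) ⧸ LinearMap.range (g.baseChange (A ⧸ J)))] :
    Function.Exact f g := by
  intro y
  constructor
  swap
  · rintro ⟨x, rfl⟩; exact hgf x
  intro hy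
  have hkill : ∀ a ∈ J, ∀ x : J, a • x = 0 := by
    intro a ha x
    apply Subtype.ext
    have : a * x.1 ∈ J * J := Ideal.mul_mem_mul ha x.2
    rw [hJ] at this
    exact this
  have h1 : g.baseChange (A ⧸ J) ((1 : A ⧸ J) ⊗ₜ[A] y) = 0 := by
    rw [LinearMap.baseChange_tmul, hy, tmul_zero]
  obtain ⟨x, hx⟩ := (H _).1 h1
  obtain ⟨x, rfl⟩ := exists_one_tmul J X x
  have h2 : (1 : A ⧸ J) ⊗ₜ[A] (y - f x) = 0 := by
    rw [tmul_sub, ← hx, LinearMap.baseChange_tmul, sub_self]
  obtain ⟨t, ht⟩ := exists_of_one_tmul_eq_zero J Y _ h2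
  have h3 : g.lTensor J t = 0 := by
    apply lid_rTensor_injective (Z := Z) J
    change TensorProduct.lid A Z (Submodule.subtype J |>.rTensor Z (g.lTensor J t)) =
      TensorProduct.lid A Z (Submodule.subtype J |>.rTensor Z 0)
    rw [lid_rTensor_lTensor, map_zero, map_zero]
    change g (TensorProduct.lid A Y (J.subtype.rTensor Y t)) = 0
    rw [ht, map_sub, hy, hgf, sub_self]
  obtain ⟨s, hs⟩ := (lTensor_exact_of_killed J f g H J hkill t).1 h3
  refine ⟨x + TensorProduct.lid A X (Submodule.subtype J |>.rTensor X s), ?_⟩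
  rw [map_add, ← lid_rTensor_lTensor, hs]
  change f x + TensorProduct.lid A Y (J.subtype.rTensor Y t) = y
  rw [ht]; abel

/-- If `Q` is the cokernel and `Q / J Q` is flat over `A / J` then `Q` is flat. -/
theorem flat_coker_of_baseChange (hgf : ∀ x, g (f x) = 0) [Module.Flat A Z]
    (H : Function.Exact (f.baseChange (A ⧸ J)) (g.baseChange (A ⧸ J)))
    [hfl : Module.Flat (A ⧸ J) (((A ⧸ J) ⊗[A] Z) ⧸ LinearMap.range (g.baseChange (A ⧸ J)))] :
    Module.Flat A (Z ⧸ LinearMap.range g) := by
  have hgsurj : Function.Surjective (LinearMap.range g).mkQ := Submodule.mkQ_surjective _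
  have hex : Function.Exact g (LinearMap.range g).mkQ := by
    intro z
    rw [← LinearMap.mem_ker, Submodule.ker_mkQ]; rfl
  have hkill : ∀ a ∈ J, ∀ x ∈ J, a • x = 0 := by
    intro a ha x hx
    have : a * x ∈ J * J := Ideal.mul_mem_mul ha hx
    rw [hJ] at this
    exact this
  -- flatness of `Q / J Q`
  let e1 : ((A ⧸ J) ⊗[A] Z) →ₗ[A ⧸ J] ((A ⧸ J) ⊗[A] (Z ⧸ LinearMap.range g)) :=
    (LinearMap.range g).mkQ.baseChange (A ⧸ J)
  have he1 : Function.Surjective e1 := LinearMap.lTensor_surjective _ hgsurj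
  have hk : LinearMap.range (g.baseChange (A ⧸ J)) = LinearMap.ker e1 := by
    ext z
    exact (_root_.lTensor_exact (A ⧸ J) hex hgsurj z).symm
  let e2 : (((A ⧸ J) ⊗[A] Z) ⧸ LinearMap.range (g.baseChange (A ⧸ J))) ≃ₗ[A ⧸ J]
      ((A ⧸ J) ⊗[A] (Z ⧸ LinearMap.range g)) :=
    (Submodule.quotEquivOfEq _ _ hk).trans (e1.quotKerEquivOfSurjective he1)
  have hfl1 : Module.Flat (A ⧸ J) ((A ⧸ J) ⊗[A] (Z ⧸ LinearMap.range g)) :=
    Module.Flat.of_linearEquiv e2.symm
  let e3 : ((A ⧸ J) ⊗[A] (Z ⧸ LinearMap.range g)) ≃ₗ[A ⧸ J]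
      ((Z ⧸ LinearMap.range g) ⧸ (J • ⊤ : Submodule A (Z ⧸ LinearMap.range g))) :=
    (quotTensorEquivQuotSMul (Z ⧸ LinearMap.range g) J).extendScalarsOfSurjective
      Ideal.Quotient.mk_surjective
  have hfl2 : Module.Flat (A ⧸ J)
      ((Z ⧸ LinearMap.range g) ⧸ (J • ⊤ : Submodule A (Z ⧸ LinearMap.range g))) :=
    Module.Flat.of_linearEquiv e3.symm
  -- injectivity of `J ⊗ Q → Q`
  have hinj : Function.Injective ((Submodule.subtype J).rTensor (Z ⧸ LinearMap.range g)) := by
    rw [injective_iff_map_eq_zero]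
    intro t ht
    obtain ⟨t, rfl⟩ := LinearMap.lTensor_surjective J hgsurj t
    have h1 : (LinearMap.range g).mkQ (TensorProduct.lid A Z ((Submodule.subtype J).rTensor Z t)) = 0 := by
      rw [← lid_rTensor_lTensor, ht, map_zero]
    rw [← LinearMap.mem_ker, Submodule.ker_mkQ] at h1
    obtain ⟨y, hy⟩ := h1
    -- `1 ⊗ y` is killed by `g`
    have h2 : g.baseChange (A ⧸ J) ((1 : A ⧸ J) ⊗ₜ[A] y) = 0 := by
      rw [LinearMap.baseChange_tmul, hy]
      generalize t = t
      induction t with
      | zero => simp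
      | add x y hx hy => simp only [map_add, tmul_add, hx, hy, add_zero]
      | tmul a x =>
        rw [LinearMap.rTensor_tmul, TensorProduct.lid_tmul, tmul_smul, smul_tmul']
        have : (a : A) • (1 : A ⧸ J) = 0 := by
          rw [Algebra.smul_def, mul_one]
          exact Ideal.Quotient.eq_zero_iff_mem.2 a.2
        change ((a : A) • (1 : A ⧸ J)) ⊗ₜ[A] x = 0
        rw [this, zero_tmul]
    obtain ⟨x, hx⟩ := (H _).1 h2
    obtain ⟨x, rfl⟩ := exists_one_tmul J X x
    have h3 : (1 : A ⧸ J) ⊗ₜ[A] (y - f x) = 0 := by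
      rw [tmul_sub, ← hx, LinearMap.baseChange_tmul, sub_self]
    obtain ⟨s, hs⟩ := exists_of_one_tmul_eq_zero J Y _ h3
    have h4 : g.lTensor J s = t := by
      apply lid_rTensor_injective (Z := Z) J
      change TensorProduct.lid A Z ((Submodule.subtype J).rTensor Z (g.lTensor J s)) =
        TensorProduct.lid A Z ((Submodule.subtype J).rTensor Z t)
      rw [lid_rTensor_lTensor, hs, map_sub, hgf, sub_zero, hy]
    exact (_root_.lTensor_exact J hex hgsurj t).2 ⟨s, h4⟩
  rw [Module.Flat.iff_rTensor_injective']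
  intro K
  exact Groth.Agent.Flat2B.NilpFlat.rTensor_injective_of_filtered J (Z ⧸ LinearMap.range g) J
    (fun a ha x => J.mul_mem_right x ha) hkill hinj _ Subtype.val_injective

end Groth.Agent.SGA3.K211.LiftExact
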